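import Cfsg.Agent.L0.CosetChain

/-! Generated coset table certificate. -/

set_option autoImplicit false
set_option maxRecDepth 100000

open Cfsg.Agent.L0

namespace Cfsg.Agent.H3.Tits.Tc1

noncomputable def t0 : BT := .node (.leaf (nat_lit 0x6e96746fa4c55044b54138994946a8ae6000698988935788d4592e6acd3260d229504d89d4e800191e4a2514cb97075034e96c34f54134c59294f800048a8f8a2eab1e0d1b69ae3399aa2ad92dec6904c0030a62624887064458f852a44746ac886da412629000a238c850dc02802531e3d802135801c0190440140010d1320472862a42452642432622622432004692000411438080480480480480480480480480400c804000008000)) (.leaf (nat_lit 0x4134c55087144e5a544e94e4519525927000876a4893193e104db59a9e369addc292a14d90d00010d6862))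

noncomputable def tree : BT := t0

noncomputable def row : ℕ → ℕ := rowOf tree (nat_lit 3) (nat_lit 7) (nat_lit 170) (nat_lit 0x3ffffffffffffffffffffffffffffffffffffffffff)

noncomputable def cols : List Col := [⟨nat_lit 14, nat_lit 0, [([nat_lit 14], nat_lit 0), ([nat_lit 86, nat_lit 14, nat_lit 74], nat_lit 0), ([nat_lit 74, nat_lit 14, nat_lit 86], nat_lit 0), ([nat_lit 50, nat_lit 14, nat_lit 50], nat_lit 0), ([nat_lit 134, nat_lit 50, nat_lit 74, nat_lit 74, nat_lit 134, nat_lit 50, nat_lit 38], nat_lit 0)]⟩,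
  ⟨nat_lit 38, nat_lit 1, [([nat_lit 38], nat_lit 0), ([nat_lit 134, nat_lit 50, nat_lit 74, nat_lit 86, nat_lit 14, nat_lit 50], nat_lit 0), ([nat_lit 134, nat_lit 38, nat_lit 134], nat_lit 0), ([nat_lit 62, nat_lit 38, nat_lit 74, nat_lit 158, nat_lit 38, nat_lit 98], nat_lit 0)]⟩,
  ⟨nat_lit 50, nat_lit 0, [([nat_lit 50], nat_lit 0), ([nat_lit 62, nat_lit 50, nat_lit 146, nat_lit 38, nat_lit 98, nat_lit 50, nat_lit 74], nat_lit 0), ([nat_lit 14, nat_lit 50, nat_lit 14], nat_lit 0), ([nat_lit 74, nat_lit 50, nat_lit 62, nat_lit 50, nat_lit 146, nat_lit 38, nat_lit 98], nat_lit 0)]⟩,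
  ⟨nat_lit 62, nat_lit 1, [([nat_lit 74], nat_lit 0), ([nat_lit 146, nat_lit 38, nat_lit 98, nat_lit 74, nat_lit 38], nat_lit 0)]⟩,
  ⟨nat_lit 74, nat_lit 1, [([nat_lit 62], nat_lit 0), ([nat_lit 14, nat_lit 86, nat_lit 14], nat_lit 0), ([nat_lit 134, nat_lit 50, nat_lit 38, nat_lit 14, nat_lit 134, nat_lit 50, nat_lit 74], nat_lit 0), ([nat_lit 74, nat_lit 74, nat_lit 74], nat_lit 0), ([nat_lit 146, nat_lit 50, nat_lit 74, nat_lit 146, nat_lit 50], nat_lit 0)]⟩,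
  ⟨nat_lit 86, nat_lit 1, [([nat_lit 98], nat_lit 0), ([nat_lit 14, nat_lit 74, nat_lit 14], nat_lit 0), ([nat_lit 14, nat_lit 50, nat_lit 38, nat_lit 134, nat_lit 50, nat_lit 74], nat_lit 0)]⟩,
  ⟨nat_lit 98, nat_lit 1, [([nat_lit 86], nat_lit 0), ([nat_lit 74, nat_lit 110, nat_lit 62], nat_lit 0), ([nat_lit 98, nat_lit 98, nat_lit 98], nat_lit 0), ([nat_lit 98, nat_lit 146, nat_lit 146], nat_lit 0), ([nat_lit 146, nat_lit 86, nat_lit 158], nat_lit 0)]⟩,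
  ⟨nat_lit 110, nat_lit 1, [([nat_lit 122], nat_lit 0), ([nat_lit 62, nat_lit 98, nat_lit 74], nat_lit 0), ([nat_lit 110, nat_lit 134], nat_lit 0), ([nat_lit 134, nat_lit 110], nat_lit 0)]⟩,
  ⟨nat_lit 122, nat_lit 1, [([nat_lit 110], nat_lit 0), ([nat_lit 146, nat_lit 110, nat_lit 98], nat_lit 0), ([nat_lit 86, nat_lit 38, nat_lit 98, nat_lit 110, nat_lit 38], nat_lit 0)]⟩,
  ⟨nat_lit 134, nat_lit 1, [([nat_lit 134], nat_lit 0), ([nat_lit 110, nat_lit 110], nat_lit 0), ([nat_lit 38, nat_lit 134, nat_lit 38], nat_lit 0), ([nat_lit 50, nat_lit 38, nat_lit 14, nat_lit 134, nat_lit 50, nat_lit 74, nat_lit 74], nat_lit 0)]⟩,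
  ⟨nat_lit 146, nat_lit 1, [([nat_lit 158], nat_lit 0), ([nat_lit 86, nat_lit 158, nat_lit 98], nat_lit 0), ([nat_lit 110, nat_lit 98, nat_lit 122], nat_lit 0), ([nat_lit 146, nat_lit 98, nat_lit 98], nat_lit 0), ([nat_lit 38, nat_lit 98, nat_lit 74, nat_lit 38, nat_lit 62], nat_lit 0), ([nat_lit 50, nat_lit 74, nat_lit 146, nat_lit 50, nat_lit 74], nat_lit 0)]⟩,
  ⟨nat_lit 158, nat_lit 1, [([nat_lit 146], nat_lit 0), ([nat_lit 98, nat_lit 146, nat_lit 86], nat_lit 0), ([nat_lit 98, nat_lit 134, nat_lit 86, nat_lit 146, nat_lit 134], nat_lit 0)]⟩]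

noncomputable def erots : List (List ℕ × ℕ) := []

noncomputable def gens : List ℕ := [nat_lit 14, nat_lit 38, nat_lit 50, nat_lit 62, nat_lit 74, nat_lit 86, nat_lit 98, nat_lit 110, nat_lit 122, nat_lit 134, nat_lit 146, nat_lit 158]

noncomputable def chk : ℕ → Bool := chkRow0 row (nat_lit 10) (nat_lit 0xf) (nat_lit 0x1f0) (nat_lit 9) (nat_lit 0x7) (nat_lit 0) (nat_lit 0xf) (nat_lit 4) (nat_lit 0xff) (nat_lit 0x3000) [] cols gens

theorem b0 : allR chk 4 0 = true := by decide +kernel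

noncomputable def T : CT := ⟨row, nat_lit 10, nat_lit 10, nat_lit 0xf, nat_lit 0x1f0, nat_lit 9, nat_lit 0x7, nat_lit 0, nat_lit 0xf, nat_lit 4, nat_lit 0xff, nat_lit 0x3000, nat_lit 170, nat_lit 170, nat_lit 0, nat_lit 8, [], cols, erots, gens⟩

theorem all : ∀ c < 10, chk c = true := fun c hc =>
  allR_glue (d := 4) (n := 1) (forall_lt_succ' forall_lt_zero' b0) c (lt_of_lt_of_le hc (by norm_num))

/-- the relators used -/
def R : List (List ℕ) := [[nat_lit 0, nat_lit 0],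
  [nat_lit 2, nat_lit 2],
  [nat_lit 3, nat_lit 3],
  [nat_lit 4, nat_lit 5],
  [nat_lit 6, nat_lit 7],
  [nat_lit 8, nat_lit 9],
  [nat_lit 10, nat_lit 10],
  [nat_lit 11, nat_lit 12],
  [nat_lit 0, nat_lit 5, nat_lit 0, nat_lit 6],
  [nat_lit 4, nat_lit 7, nat_lit 5, nat_lit 8],
  [nat_lit 8, nat_lit 8, nat_lit 10],
  [nat_lit 8, nat_lit 7, nat_lit 9, nat_lit 11],
  [nat_lit 7, nat_lit 7, nat_lit 7, nat_lit 7],
  [nat_lit 7, nat_lit 11, nat_lit 11, nat_lit 7],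
  [nat_lit 10, nat_lit 2, nat_lit 10, nat_lit 2],
  [nat_lit 11, nat_lit 6, nat_lit 12, nat_lit 7],
  [nat_lit 10, nat_lit 6, nat_lit 11, nat_lit 10, nat_lit 12, nat_lit 7],
  [nat_lit 8, nat_lit 2, nat_lit 9, nat_lit 6, nat_lit 2, nat_lit 7],
  [nat_lit 5, nat_lit 5, nat_lit 5, nat_lit 5],
  [nat_lit 5, nat_lit 2, nat_lit 4, nat_lit 11, nat_lit 2, nat_lit 7],
  [nat_lit 4, nat_lit 2, nat_lit 5, nat_lit 12, nat_lit 2, nat_lit 7, nat_lit 2],
  [nat_lit 3, nat_lit 0, nat_lit 3, nat_lit 0],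
  [nat_lit 3, nat_lit 5, nat_lit 11, nat_lit 3, nat_lit 5, nat_lit 11],
  [nat_lit 0, nat_lit 3, nat_lit 2, nat_lit 10, nat_lit 3, nat_lit 5, nat_lit 6],
  [nat_lit 3, nat_lit 2, nat_lit 0, nat_lit 10, nat_lit 3, nat_lit 5, nat_lit 5, nat_lit 10],
  [nat_lit 3, nat_lit 5, nat_lit 3, nat_lit 4, nat_lit 3, nat_lit 11, nat_lit 2, nat_lit 7]]

theorem cert : Cert T (R.map fun r => (r, 0)) ([2, 4, 5, 6, 7, 8, 9, 10, 11, 12].map fun y => (y, 0)) 14 12 [0, 2, 3, 4, 5, 6, 7, 8, 9, 10, 11, 12] :=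
  ⟨by decide +kernel, ⟨[[(0, 0), (8, 2), (8, 0), (21, 1), (24, 2)], [(1, 0), (23, 2), (14, 1), (20, 6)], [(2, 0), (25, 2), (21, 0), (25, 0)], [(3, 0), (19, 2)], [(3, 1), (8, 1), (24, 6), (18, 0), (22, 1)], [(4, 0), (8, 3), (23, 6)], [(4, 1), (9, 1), (12, 0), (13, 3), (15, 3)], [(5, 0), (9, 3), (10, 0), (10, 1)], [(5, 1), (11, 2), (17, 2)], [(6, 0), (10, 2), (14, 0), (24, 7)], [(7, 0), (15, 0), (11, 3), (13, 1), (19, 3), (22, 2)], [(7, 1), (15, 2), (16, 4)]], [], by decide +kernel⟩, by decide +kernel, Or.inl ⟨rfl, all⟩⟩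

theorem bound {Γ : Type*} [Group Γ] {x : ℕ → Γ} (hR : ∀ r ∈ R, ev x r = 1) {n : ℕ}
    (h : CardLe x [2, 4, 5, 6, 7, 8, 9, 10, 11, 12] n) : CardLe x [0, 2, 3, 4, 5, 6, 7, 8, 9, 10, 11, 12] (10 * n) :=
  cert.cardLe rfl hR h

end Cfsg.Agent.H3.Tits.Tc1
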