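import Cfsg.Agent.L0.CosetChain

/-! Generated coset table certificate. -/

set_option autoImplicit false
set_option maxRecDepth 100000

open Cfsg.Agent.L0

namespace Cfsg.Agent.H3.Tits.Tc2

noncomputable def t0 : BT := .leaf (nat_lit 0x570ea1342684b0a615435642a00154000001a2a4c4568a9d1a294628a511ab36000a5c00000d40d39a6352cdda4331352691d34000a8c000004a04a95caa85424dca22a55010c9c0044500000266174eb5d522a764ea1c03a12466001aa0000011d0b568cc8cd19a2390c0199221100088c00000514121432504a1402a2246484402000644000002740404809012024048090100600800101000000000)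

noncomputable def tree : BT := t0

noncomputable def row : ℕ → ℕ := rowOf tree (nat_lit 3) (nat_lit 7) (nat_lit 157) (nat_lit 0x1fffffffffffffffffffffffffffffffffffffff)

noncomputable def cols : List Col := [⟨nat_lit 36, nat_lit 1, [([nat_lit 58, nat_lit 135, nat_lit 36, nat_lit 91, nat_lit 69], nat_lit 0), ([nat_lit 69, nat_lit 146, nat_lit 36, nat_lit 91, nat_lit 36, nat_lit 58], nat_lit 0), ([nat_lit 113, nat_lit 80, nat_lit 36, nat_lit 91, nat_lit 102], nat_lit 0), ([nat_lit 91, nat_lit 102, nat_lit 36, nat_lit 113, nat_lit 80], nat_lit 0)]⟩,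
  ⟨nat_lit 58, nat_lit 0, [([nat_lit 69], nat_lit 0), ([nat_lit 91, nat_lit 69, nat_lit 102], nat_lit 0)]⟩,
  ⟨nat_lit 69, nat_lit 0, [([nat_lit 58], nat_lit 0), ([nat_lit 69, nat_lit 69, nat_lit 69], nat_lit 0)]⟩,
  ⟨nat_lit 80, nat_lit 1, [([nat_lit 91], nat_lit 0)]⟩,
  ⟨nat_lit 91, nat_lit 1, [([nat_lit 69, nat_lit 102, nat_lit 58], nat_lit 0), ([nat_lit 80], nat_lit 0), ([nat_lit 113, nat_lit 135, nat_lit 102], nat_lit 0)]⟩,
  ⟨nat_lit 102, nat_lit 1, [([nat_lit 58, nat_lit 91, nat_lit 69], nat_lit 0), ([nat_lit 91, nat_lit 69, nat_lit 69, nat_lit 113, nat_lit 135, nat_lit 58, nat_lit 58], nat_lit 0), ([nat_lit 113], nat_lit 0)]⟩,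
  ⟨nat_lit 113, nat_lit 1, [([nat_lit 102], nat_lit 0), ([nat_lit 135, nat_lit 58, nat_lit 58, nat_lit 102, nat_lit 91, nat_lit 69, nat_lit 69], nat_lit 0)]⟩,
  ⟨nat_lit 124, nat_lit 1, [([nat_lit 102, nat_lit 102], nat_lit 0)]⟩,
  ⟨nat_lit 135, nat_lit 1, [([nat_lit 146], nat_lit 0), ([nat_lit 102, nat_lit 91, nat_lit 113], nat_lit 0), ([nat_lit 36, nat_lit 91, nat_lit 69, nat_lit 36, nat_lit 58], nat_lit 0)]⟩,
  ⟨nat_lit 146, nat_lit 1, [([nat_lit 135], nat_lit 0), ([nat_lit 36, nat_lit 91, nat_lit 36, nat_lit 58, nat_lit 36, nat_lit 69], nat_lit 0), ([nat_lit 91, nat_lit 135, nat_lit 80], nat_lit 0)]⟩]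

noncomputable def erots : List (List ℕ × ℕ) := []

noncomputable def gens : List ℕ := [nat_lit 36, nat_lit 58, nat_lit 69, nat_lit 80, nat_lit 91, nat_lit 102, nat_lit 113, nat_lit 124, nat_lit 135, nat_lit 146]

noncomputable def chk : ℕ → Bool := chkRow0 row (nat_lit 8) (nat_lit 0xf) (nat_lit 0xf0) (nat_lit 8) (nat_lit 0x7) (nat_lit 0) (nat_lit 0xf) (nat_lit 4) (nat_lit 0xff) (nat_lit 0x3000) [] cols gens

theorem b0 : allR chk 3 0 = true := by decide +kernel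

noncomputable def T : CT := ⟨row, nat_lit 8, nat_lit 8, nat_lit 0xf, nat_lit 0xf0, nat_lit 8, nat_lit 0x7, nat_lit 0, nat_lit 0xf, nat_lit 4, nat_lit 0xff, nat_lit 0x3000, nat_lit 157, nat_lit 157, nat_lit 0, nat_lit 8, [], cols, erots, gens⟩

theorem all : ∀ c < 8, chk c = true := fun c hc =>
  allR_glue (d := 3) (n := 1) (forall_lt_succ' forall_lt_zero' b0) c (lt_of_lt_of_le hc (by norm_num))

/-- the relators used -/
def R : List (List ℕ) := [[nat_lit 4, nat_lit 5],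
  [nat_lit 6, nat_lit 7],
  [nat_lit 8, nat_lit 9],
  [nat_lit 11, nat_lit 12],
  [nat_lit 4, nat_lit 7, nat_lit 5, nat_lit 8],
  [nat_lit 8, nat_lit 8, nat_lit 10],
  [nat_lit 8, nat_lit 7, nat_lit 9, nat_lit 11],
  [nat_lit 11, nat_lit 6, nat_lit 12, nat_lit 7],
  [nat_lit 8, nat_lit 2, nat_lit 9, nat_lit 6, nat_lit 2, nat_lit 7],
  [nat_lit 5, nat_lit 5, nat_lit 5, nat_lit 5],
  [nat_lit 5, nat_lit 2, nat_lit 4, nat_lit 11, nat_lit 2, nat_lit 7],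
  [nat_lit 4, nat_lit 2, nat_lit 5, nat_lit 12, nat_lit 2, nat_lit 7, nat_lit 2],
  [nat_lit 4, nat_lit 4, nat_lit 8, nat_lit 7, nat_lit 5, nat_lit 5, nat_lit 9, nat_lit 11]]

theorem cert : Cert T (R.map fun r => (r, 0)) ([2, 6, 7, 8, 9, 10, 11, 12].map fun y => (y, 0)) 14 11 [2, 4, 5, 6, 7, 8, 9, 10, 11, 12] :=
  ⟨by decide +kernel, ⟨[[(10, 1), (11, 1), (8, 1), (8, 4)], [(0, 0), (4, 0)], [(0, 1), (9, 0)], [(1, 0)], [(4, 1), (1, 1), (6, 1)], [(4, 3), (12, 2), (2, 0)], [(2, 1), (12, 6)], [(5, 2)], [(3, 0), (6, 3), (10, 3)], [(3, 1), (11, 3), (7, 2)]], [], by decide +kernel⟩, by decide +kernel, Or.inl ⟨rfl, all⟩⟩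

theorem bound {Γ : Type*} [Group Γ] {x : ℕ → Γ} (hR : ∀ r ∈ R, ev x r = 1) {n : ℕ}
    (h : CardLe x [2, 6, 7, 8, 9, 10, 11, 12] n) : CardLe x [2, 4, 5, 6, 7, 8, 9, 10, 11, 12] (8 * n) :=
  cert.cardLe rfl hR h

end Cfsg.Agent.H3.Tits.Tc2
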