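import Cfsg.Agent.H3.Mu.Tits.Vec
import Cfsg.Agent.H3.Vec2

/-! The derived subgroup. -/

set_option autoImplicit false
set_option maxRecDepth 100000

open Cfsg.Agent.L0

namespace Cfsg.Agent.H3.Tits

def W : List (List ℕ) := [[nat_lit 0],
  [nat_lit 1],
  [nat_lit 3],
  [nat_lit 6]]

def Vn : List (List ℕ) := [[nat_lit 0],
  [nat_lit 0, nat_lit 1, nat_lit 0],
  [nat_lit 6, nat_lit 11, nat_lit 10, nat_lit 4, nat_lit 4],
  [nat_lit 3],
  [nat_lit 0, nat_lit 1, nat_lit 0],
  [nat_lit 1],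
  [nat_lit 2],
  [nat_lit 1, nat_lit 3, nat_lit 1],
  [nat_lit 6, nat_lit 6, nat_lit 10, nat_lit 8, nat_lit 5, nat_lit 0],
  [nat_lit 1],
  [nat_lit 2],
  [nat_lit 6, nat_lit 12, nat_lit 10, nat_lit 4, nat_lit 8, nat_lit 5, nat_lit 3, nat_lit 11],
  [nat_lit 2, nat_lit 6, nat_lit 11, nat_lit 10, nat_lit 4, nat_lit 4, nat_lit 0],
  [nat_lit 1],
  [nat_lit 2],
  [nat_lit 2, nat_lit 3, nat_lit 2],
  [nat_lit 10, nat_lit 8, nat_lit 4, nat_lit 0],
  [nat_lit 1],
  [nat_lit 2],
  [nat_lit 4, nat_lit 3, nat_lit 5],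
  [nat_lit 0],
  [nat_lit 2, nat_lit 6, nat_lit 10, nat_lit 11, nat_lit 4, nat_lit 8, nat_lit 5, nat_lit 3, nat_lit 10, nat_lit 1, nat_lit 3, nat_lit 11],
  [nat_lit 2, nat_lit 3, nat_lit 2],
  [nat_lit 3],
  [nat_lit 0],
  [nat_lit 3, nat_lit 1, nat_lit 3],
  [nat_lit 6, nat_lit 12, nat_lit 10, nat_lit 4, nat_lit 8, nat_lit 5, nat_lit 3, nat_lit 11],
  [nat_lit 3],
  [nat_lit 0],
  [nat_lit 2, nat_lit 3, nat_lit 1, nat_lit 3, nat_lit 2],
  [nat_lit 4, nat_lit 3, nat_lit 5],
  [nat_lit 3]]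

def Vc : List (List ℕ) := [[],
  [],
  [],
  [],
  [],
  [],
  [],
  [],
  [nat_lit 0, nat_lit 1],
  [],
  [],
  [],
  [],
  [],
  [],
  [],
  [nat_lit 6, nat_lit 6, nat_lit 10, nat_lit 8, nat_lit 5],
  [],
  [],
  [],
  [],
  [],
  [],
  [],
  [nat_lit 2, nat_lit 6, nat_lit 11, nat_lit 10, nat_lit 4, nat_lit 4],
  [],
  [],
  [],
  [],
  [],
  [],
  [],
  [nat_lit 10, nat_lit 8, nat_lit 4],
  [],
  [],
  [],
  [],
  [],
  [],
  [],
  [],
  [nat_lit 2, nat_lit 10, nat_lit 11, nat_lit 8, nat_lit 4, nat_lit 3, nat_lit 1, nat_lit 3, nat_lit 1, nat_lit 12],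
  [nat_lit 2, nat_lit 6, nat_lit 12, nat_lit 10, nat_lit 4, nat_lit 8, nat_lit 5, nat_lit 3, nat_lit 11],
  [nat_lit 2, nat_lit 3],
  [nat_lit 3, nat_lit 2],
  [],
  [],
  [],
  [],
  [nat_lit 3, nat_lit 1, nat_lit 3, nat_lit 1],
  [nat_lit 2, nat_lit 3],
  [nat_lit 2, nat_lit 4, nat_lit 3, nat_lit 5],
  [nat_lit 2, nat_lit 6, nat_lit 12, nat_lit 10, nat_lit 4, nat_lit 8, nat_lit 5, nat_lit 3, nat_lit 11],
  [],
  [],
  [],
  [],
  [nat_lit 2, nat_lit 3, nat_lit 1, nat_lit 3, nat_lit 1, nat_lit 2],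
  [nat_lit 3, nat_lit 2],
  [nat_lit 2, nat_lit 6, nat_lit 12, nat_lit 10, nat_lit 4, nat_lit 8, nat_lit 5, nat_lit 3, nat_lit 11],
  [nat_lit 2, nat_lit 4, nat_lit 3, nat_lit 5],
  [],
  [],
  []]

/-- codes of the root elements -/
def Cr (r : ℕ) : List ℕ := [[nat_lit 0x1, nat_lit 0x40002, nat_lit 0x4, nat_lit 0x8, nat_lit 0x10, nat_lit 0x20, nat_lit 0x40, nat_lit 0x80, nat_lit 0x100, nat_lit 0x200, nat_lit 0x400, nat_lit 0x880, nat_lit 0x1000, nat_lit 0x2000, nat_lit 0x4000, nat_lit 0x8000, nat_lit 0x10000, nat_lit 0x20000, nat_lit 0x40000, nat_lit 0x81100, nat_lit 0x102200, nat_lit 0x204400, nat_lit 0x408000, nat_lit 0x810000, nat_lit 0x1020000, nat_lit 0x2000000, nat_lit 0x4000000, nat_lit 0x8000000, nat_lit 0x10000000, nat_lit 0x20000000, nat_lit 0x40000000, nat_lit 0x80000000, nat_lit 0x100000000, nat_lit 0x200000000, nat_lit 0x400000000, nat_lit 0x800000000, nat_lit 0x1000000000, nat_lit 0x2000040001, nat_lit 0x4080000000, nat_lit 0x8100000000, nat_lit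 0x10200000000, nat_lit 0x20000000000, nat_lit 0x40000000000, nat_lit 0x80000000000, nat_lit 0x100000000000, nat_lit 0x220400000000, nat_lit 0x440800000000, nat_lit 0x881000000000, nat_lit 0x1100000000000, nat_lit 0x2000000000000, nat_lit 0x4000000000000, nat_lit 0x8000000000000],
  [nat_lit 0x1, nat_lit 0x2, nat_lit 0x4, nat_lit 0x200008, nat_lit 0x10, nat_lit 0x20, nat_lit 0x40, nat_lit 0x80, nat_lit 0x120, nat_lit 0x240, nat_lit 0x400, nat_lit 0x800, nat_lit 0x1000, nat_lit 0x2000, nat_lit 0x4000, nat_lit 0x8800, nat_lit 0x10000, nat_lit 0x20000, nat_lit 0x44000, nat_lit 0x80000, nat_lit 0x100000, nat_lit 0x200000, nat_lit 0x400000, nat_lit 0x800000, nat_lit 0x1000000, nat_lit 0x2080000, nat_lit 0x4000000, nat_lit 0x8100000, nat_lit 0x10000000, nat_lit 0x20000000, nat_lit 0x40000000, nat_lit 0x80800000, nat_lit 0x101000000, nat_lit 0x200000000, nat_lit 0x400200006, nat_lit 0x810000000, nat_lit 0x1040000000, nat_lit 0x2000000000, nat_lit 0x4000000000, nat_lit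 0x8000000000, nat_lit 0x10000000000, nat_lit 0x22000000000, nat_lit 0x40000000000, nat_lit 0x80000000000, nat_lit 0x110000000000, nat_lit 0x200000000000, nat_lit 0x400000000000, nat_lit 0x800000000000, nat_lit 0x1000000000000, nat_lit 0x2400000000000, nat_lit 0x4800000000000, nat_lit 0x8000000000000],
  [nat_lit 0x800001, nat_lit 0x2, nat_lit 0x800004, nat_lit 0x800008, nat_lit 0x10, nat_lit 0x20, nat_lit 0x40, nat_lit 0x80, nat_lit 0x100, nat_lit 0x2a0, nat_lit 0x400, nat_lit 0x800, nat_lit 0x1000, nat_lit 0x2800, nat_lit 0x4000, nat_lit 0x9000, nat_lit 0x10000, nat_lit 0x24000, nat_lit 0x50000, nat_lit 0x80000, nat_lit 0x100000, nat_lit 0x200000, nat_lit 0x400000, nat_lit 0x800000, nat_lit 0x1000000, nat_lit 0x2000000, nat_lit 0x4000000, nat_lit 0x8480000, nat_lit 0x10000000, nat_lit 0x21200000, nat_lit 0x40000000, nat_lit 0x80000000, nat_lit 0x100800002, nat_lit 0x200000000, nat_lit 0x484000000, nat_lit 0x800000000, nat_lit 0x1210000000, nat_lit 0x2000000000,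 nat_lit 0x4000000000, nat_lit 0xa000000000, nat_lit 0x10000000000, nat_lit 0x24000000000, nat_lit 0x40000000000, nat_lit 0x90000000000, nat_lit 0x140000000000, nat_lit 0x200000000000, nat_lit 0x400000000000, nat_lit 0x800000000000, nat_lit 0x1000000000000, nat_lit 0x2000000000000, nat_lit 0x5400000000000, nat_lit 0x8000000000000],
  [nat_lit 0x1000001, nat_lit 0x2, nat_lit 0x1000004, nat_lit 0x8, nat_lit 0x10, nat_lit 0x20, nat_lit 0x40, nat_lit 0x80, nat_lit 0x1c0, nat_lit 0x200, nat_lit 0x400, nat_lit 0x800, nat_lit 0x1800, nat_lit 0x2000, nat_lit 0x4000, nat_lit 0xa000, nat_lit 0x14000, nat_lit 0x20000, nat_lit 0x60000, nat_lit 0x80000, nat_lit 0x100000, nat_lit 0x200000, nat_lit 0x400000, nat_lit 0x800000, nat_lit 0x1000000, nat_lit 0x2500000, nat_lit 0x4a00000, nat_lit 0x8000000, nat_lit 0x10000000, nat_lit 0x20000000, nat_lit 0x40000000, nat_lit 0x81000002, nat_lit 0x100000000, nat_lit 0x200000000, nat_lit 0x520000000, nat_lit 0xa40000000, nat_lit 0x1000000000,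 nat_lit 0x2000000000, nat_lit 0x6000000000, nat_lit 0x8000000000, nat_lit 0x10000000000, nat_lit 0x28000000000, nat_lit 0x50000000000, nat_lit 0x80000000000, nat_lit 0x180000000000, nat_lit 0x200000000000, nat_lit 0x400000000000, nat_lit 0x800000000000, nat_lit 0x1000000000000, nat_lit 0x3800000000000, nat_lit 0x4000000000000, nat_lit 0x8000000000000],
  [nat_lit 0x1, nat_lit 0x2, nat_lit 0x4, nat_lit 0x4000008, nat_lit 0x10, nat_lit 0x20, nat_lit 0x60, nat_lit 0x80, nat_lit 0x100, nat_lit 0x300, nat_lit 0x400, nat_lit 0x800, nat_lit 0x1000, nat_lit 0x3000, nat_lit 0x4000, nat_lit 0x8000, nat_lit 0x10000, nat_lit 0x30000, nat_lit 0x40000, nat_lit 0x80000, nat_lit 0x180000, nat_lit 0x200000, nat_lit 0x400000, nat_lit 0x800000, nat_lit 0x1800000, nat_lit 0x2000000, nat_lit 0x4000000, nat_lit 0xa000000, nat_lit 0x10000000, nat_lit 0x24000004, nat_lit 0x50000000, nat_lit 0x80000000, nat_lit 0x180000000, nat_lit 0x200000000, nat_lit 0x400000000, nat_lit 0x800000000,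 nat_lit 0x1800000000, nat_lit 0x2000000000, nat_lit 0x4000000000, nat_lit 0xc000000000, nat_lit 0x10000000000, nat_lit 0x20000000000, nat_lit 0x40000000000, nat_lit 0xc0000000000, nat_lit 0x100000000000, nat_lit 0x200000000000, nat_lit 0x400000000000, nat_lit 0xc00000000000, nat_lit 0x1000000000000, nat_lit 0x2000000000000, nat_lit 0x6000000000000, nat_lit 0x8000000000000],
  [nat_lit 0x1, nat_lit 0x2, nat_lit 0x8000004, nat_lit 0x8, nat_lit 0x10, nat_lit 0x30, nat_lit 0x40, nat_lit 0x80, nat_lit 0x100, nat_lit 0x200, nat_lit 0x600, nat_lit 0x800, nat_lit 0x1000, nat_lit 0x2000, nat_lit 0x6000, nat_lit 0x8000, nat_lit 0x18000, nat_lit 0x20000, nat_lit 0x40000, nat_lit 0x80000, nat_lit 0x100000, nat_lit 0x300000, nat_lit 0x400000, nat_lit 0xc00000, nat_lit 0x1000000, nat_lit 0x2000000, nat_lit 0x6000000, nat_lit 0x8000000, nat_lit 0x18000008, nat_lit 0x20000000, nat_lit 0x60000000, nat_lit 0x80000000, nat_lit 0x100000000, nat_lit 0x300000000, nat_lit 0x400000000,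 nat_lit 0xc00000000, nat_lit 0x1000000000, nat_lit 0x2000000000, nat_lit 0x4000000000, nat_lit 0x8000000000, nat_lit 0x18000000000, nat_lit 0x20000000000, nat_lit 0x60000000000, nat_lit 0x80000000000, nat_lit 0x100000000000, nat_lit 0x200000000000, nat_lit 0x600000000000, nat_lit 0x800000000000, nat_lit 0x1000000000000, nat_lit 0x2000000000000, nat_lit 0x4000000000000, nat_lit 0xc000000000000],
  [nat_lit 0x1, nat_lit 0x2, nat_lit 0x10000004, nat_lit 0x8, nat_lit 0x30, nat_lit 0x20, nat_lit 0x40, nat_lit 0x80, nat_lit 0x100, nat_lit 0x600, nat_lit 0x400, nat_lit 0x800, nat_lit 0x1000, nat_lit 0x6000, nat_lit 0x4000, nat_lit 0x18000, nat_lit 0x10000, nat_lit 0x20000, nat_lit 0x40000, nat_lit 0x80000, nat_lit 0x300000, nat_lit 0x200000, nat_lit 0xc00000, nat_lit 0x800000, nat_lit 0x1000000, nat_lit 0x6000000, nat_lit 0x4000000, nat_lit 0x18000008, nat_lit 0x10000000, nat_lit 0x60000000, nat_lit 0x40000000, nat_lit 0x80000000, nat_lit 0x300000000, nat_lit 0x200000000,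 nat_lit 0xc00000000, nat_lit 0x800000000, nat_lit 0x1000000000, nat_lit 0x2000000000, nat_lit 0x4000000000, nat_lit 0x18000000000, nat_lit 0x10000000000, nat_lit 0x60000000000, nat_lit 0x40000000000, nat_lit 0x80000000000, nat_lit 0x100000000000, nat_lit 0x600000000000, nat_lit 0x400000000000, nat_lit 0x800000000000, nat_lit 0x1000000000000, nat_lit 0x2000000000000, nat_lit 0xc000000000000, nat_lit 0x8000000000000],
  [nat_lit 0x1, nat_lit 0x2, nat_lit 0x4, nat_lit 0x20000008, nat_lit 0x10, nat_lit 0x60, nat_lit 0x40, nat_lit 0x80, nat_lit 0x300, nat_lit 0x200, nat_lit 0x400, nat_lit 0x800, nat_lit 0x3000, nat_lit 0x2000, nat_lit 0x4000, nat_lit 0x8000, nat_lit 0x30000, nat_lit 0x20000, nat_lit 0x40000, nat_lit 0x180000, nat_lit 0x100000, nat_lit 0x200000, nat_lit 0x400000, nat_lit 0x1800000, nat_lit 0x1000000, nat_lit 0xa000000, nat_lit 0x24000004, nat_lit 0x8000000, nat_lit 0x50000000, nat_lit 0x20000000, nat_lit 0x40000000, nat_lit 0x180000000, nat_lit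 0x100000000, nat_lit 0x200000000, nat_lit 0x400000000, nat_lit 0x1800000000, nat_lit 0x1000000000, nat_lit 0x2000000000, nat_lit 0xc000000000, nat_lit 0x8000000000, nat_lit 0x10000000000, nat_lit 0x20000000000, nat_lit 0xc0000000000, nat_lit 0x80000000000, nat_lit 0x100000000000, nat_lit 0x200000000000, nat_lit 0xc00000000000, nat_lit 0x800000000000, nat_lit 0x1000000000000, nat_lit 0x6000000000000, nat_lit 0x4000000000000, nat_lit 0x8000000000000],
  [nat_lit 0x80000001, nat_lit 0x2, nat_lit 0x80000004, nat_lit 0x8, nat_lit 0x10, nat_lit 0x20, nat_lit 0x1c0, nat_lit 0x80, nat_lit 0x100, nat_lit 0x200, nat_lit 0x400, nat_lit 0x1800, nat_lit 0x1000, nat_lit 0xa000, nat_lit 0x14000, nat_lit 0x8000, nat_lit 0x10000, nat_lit 0x60000, nat_lit 0x40000, nat_lit 0x80000, nat_lit 0x2500000, nat_lit 0x4a00000, nat_lit 0x400000, nat_lit 0x800000, nat_lit 0x81000002, nat_lit 0x2000000, nat_lit 0x4000000, nat_lit 0x8000000, nat_lit 0x10000000, nat_lit 0x520000000, nat_lit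 0xa40000000, nat_lit 0x80000000, nat_lit 0x100000000, nat_lit 0x200000000, nat_lit 0x400000000, nat_lit 0x800000000, nat_lit 0x1000000000, nat_lit 0x6000000000, nat_lit 0x4000000000, nat_lit 0x28000000000, nat_lit 0x50000000000, nat_lit 0x20000000000, nat_lit 0x40000000000, nat_lit 0x180000000000, nat_lit 0x100000000000, nat_lit 0x200000000000, nat_lit 0x400000000000, nat_lit 0x3800000000000, nat_lit 0x1000000000000, nat_lit 0x2000000000000, nat_lit 0x4000000000000, nat_lit 0x8000000000000],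
  [nat_lit 0x100000001, nat_lit 0x2, nat_lit 0x100000004, nat_lit 0x100000008, nat_lit 0x10, nat_lit 0x2a0, nat_lit 0x40, nat_lit 0x80, nat_lit 0x100, nat_lit 0x200, nat_lit 0x400, nat_lit 0x2800, nat_lit 0x9000, nat_lit 0x2000, nat_lit 0x24000, nat_lit 0x8000, nat_lit 0x50000, nat_lit 0x20000, nat_lit 0x40000, nat_lit 0x8480000, nat_lit 0x100000, nat_lit 0x21200000, nat_lit 0x400000, nat_lit 0x100800002, nat_lit 0x1000000, nat_lit 0x2000000, nat_lit 0x484000000, nat_lit 0x8000000, nat_lit 0x1210000000, nat_lit 0x20000000, nat_lit 0x40000000, nat_lit 0x80000000, nat_lit 0x100000000, nat_lit 0x200000000, nat_lit 0x400000000, nat_lit 0x800000000, nat_lit 0x1000000000, nat_lit 0xa000000000, nat_lit 0x24000000000, nat_lit 0x8000000000, nat_lit 0x90000000000, nat_lit 0x20000000000, nat_lit 0x140000000000, nat_lit 0x80000000000, nat_lit 0x100000000000, nat_lit 0x200000000000, nat_lit 0x5400000000000, nat_lit 0x800000000000, nat_lit 0x1000000000000, nat_lit 0x2000000000000,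 nat_lit 0x4000000000000, nat_lit 0x8000000000000],
  [nat_lit 0x1, nat_lit 0x2, nat_lit 0x4, nat_lit 0x400000008, nat_lit 0x10, nat_lit 0x120, nat_lit 0x240, nat_lit 0x80, nat_lit 0x100, nat_lit 0x200, nat_lit 0x400, nat_lit 0x8800, nat_lit 0x1000, nat_lit 0x2000, nat_lit 0x44000, nat_lit 0x8000, nat_lit 0x10000, nat_lit 0x20000, nat_lit 0x40000, nat_lit 0x2080000, nat_lit 0x8100000, nat_lit 0x400200006, nat_lit 0x400000, nat_lit 0x80800000, nat_lit 0x101000000, nat_lit 0x2000000, nat_lit 0x4000000, nat_lit 0x8000000, nat_lit 0x810000000, nat_lit 0x20000000, nat_lit 0x1040000000, nat_lit 0x80000000, nat_lit 0x100000000, nat_lit 0x200000000, nat_lit 0x400000000, nat_lit 0x800000000, nat_lit 0x1000000000, nat_lit 0x22000000000, nat_lit 0x4000000000, nat_lit 0x8000000000, nat_lit 0x110000000000, nat_lit 0x20000000000, nat_lit 0x40000000000, nat_lit 0x80000000000, nat_lit 0x100000000000, nat_lit 0x200000000000, nat_lit 0x2400000000000, nat_lit 0x4800000000000,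 nat_lit 0x1000000000000, nat_lit 0x2000000000000, nat_lit 0x4000000000000, nat_lit 0x8000000000000],
  [nat_lit 0x1, nat_lit 0x2000000002, nat_lit 0x4, nat_lit 0x8, nat_lit 0x10, nat_lit 0x20, nat_lit 0x40, nat_lit 0x880, nat_lit 0x81100, nat_lit 0x102200, nat_lit 0x204400, nat_lit 0x800, nat_lit 0x1000, nat_lit 0x2000, nat_lit 0x4000, nat_lit 0x408000, nat_lit 0x810000, nat_lit 0x1020000, nat_lit 0x2000040001, nat_lit 0x80000, nat_lit 0x100000, nat_lit 0x200000, nat_lit 0x400000, nat_lit 0x800000, nat_lit 0x1000000, nat_lit 0x2000000, nat_lit 0x4000000, nat_lit 0x8000000, nat_lit 0x10000000, nat_lit 0x20000000, nat_lit 0x40000000, nat_lit 0x4080000000, nat_lit 0x8100000000, nat_lit 0x10200000000, nat_lit 0x220400000000, nat_lit 0x440800000000, nat_lit 0x881000000000, nat_lit 0x2000000000, nat_lit 0x4000000000, nat_lit 0x8000000000, nat_lit 0x10000000000, nat_lit 0x20000000000, nat_lit 0x40000000000, nat_lit 0x80000000000, nat_lit 0x1100000000000, nat_lit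 0x200000000000, nat_lit 0x400000000000, nat_lit 0x800000000000, nat_lit 0x1000000000000, nat_lit 0x2000000000000, nat_lit 0x4000000000000, nat_lit 0x8000000000000]].getD ([14, 17, 19, 20, 22, 23, 24, 25, 27, 28, 30, 33].idxOf r) []

def ws : List (List ℕ) := [[33, 24], [14, 23], [27, 25, 28], [28, 30], [27, 25, 30], [20, 22, 19], [19, 17], [20, 22, 17]]

noncomputable def derf : ℕ → Bool := derChk T0 T (nat_lit 1755) W [nat_lit 0, nat_lit 1, nat_lit 2, nat_lit 3]

theorem derb0 : allR derf 11 0 = true := by decide +kernel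

theorem der : ∀ c < 1755, derf c = true := fun c hc =>
  allR_glue (d := 11) (n := 1) (forall_lt_succ' forall_lt_zero' derb0) c (lt_of_lt_of_le hc (by norm_num))

theorem nrm : nrmB T0 T Bs 8 4 13 Vn Vc = true := by decide +kernel

theorem codr : ∀ r ∈ [14, 17, 19, 20, 22, 23, 24, 25, 27, 28, 30, 33], Vec.CodR P e (1 : ZMod 2) (Cr r) (Lie.chevF4.x (ZMod 2) r 1) := by
  decide +kernel

theorem codw : ∀ i < 8, nthW Cs i = Vec.cw Cr CI (ws.getD i []) ∧ ∀ r ∈ ws.getD i [], r ∈ [14, 17, 19, 20, 22, 23, 24, 25, 27, 28, 30, 33] := by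
  decide +kernel

theorem der_model {G : Type*} [Group G] [Finite G] {A : RAct G 1755} {a : ℕ → G} (h0 : A.Tab a 8 T0)
    (hb : A.IsBase Bs) (ha : genL a (List.range 8) = ⊤) : Model (commutator G) 1755 4 T Bf := by
  obtain ⟨x, _, h1, h2⟩ := ext (tab_derive (T := T) (k := 4) h0 (W := W) (by decide +kernel) le_rfl der)
  have h3 : genL x (List.range 13) = genL x (List.range 4) := h2.trans (genL_congr fun i hi =>
    (‹∀ i < 4, x i = _› i (List.mem_range.mp hi)).symm)
  exact model_commutator h0 hb ha h1 (by norm_num) h3 nrm (R := R) (by decide +kernel)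
    (by decide +kernel) [[(67, 3), (169, 5), (-84, 9), (-325, 12), (1, 14), (-234, 15), (117, 16), (119, 17), (-84, 19), (325, 21), (-65, 22), (-13, 24), (6, 25), (-35, 27), (58, 29), (7, 30), (-67, 32), (-1, 33), (1, 34), (44, 37), (-110, 38), (44, 39)],
    [(-201, 3), (-503, 5), (252, 9), (970, 12), (-3, 14), (698, 15), (-349, 16), (-357, 17), (252, 19), (-970, 21), (194, 22), (39, 24), (-18, 25), (105, 27), (-174, 29), (-21, 30), (201, 32), (3, 33), (-3, 34), (-131, 37), (328, 38), (-131, 39)],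
    [(1206, 3), (3019, 5), (-1500, 9), (-5805, 12), (18, 14), (-4180, 15), (2090, 16), (2125, 17), (-1500, 19), (5805, 21), (-1161, 22), (-232, 24), (107, 25), (-625, 27), (1036, 29), (125, 30), (-1206, 32), (-18, 33), (18, 34), (786, 37), (-1965, 38), (786, 39)],
    [(268, 3), (663, 5), (-322, 9), (-1270, 12), (2, 13), (6, 14), (-916, 15), (458, 16), (456, 17), (-322, 19), (1270, 21), (-254, 22), (-50, 24), (23, 25), (-135, 27), (223, 29), (27, 30), (1, 31), (-268, 32), (-4, 33), (4, 34), (-1, 36), (172, 37), (-432, 38), (172, 39)],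
    [(-2680, 3), (-6696, 5), (3308, 9), (12860, 12), (-3, 13), (-44, 14), (9264, 15), (-4632, 16), (-4686, 17), (3308, 19), (-12860, 21), (2572, 22), (512, 24), (-236, 25), (1380, 27), (-2286, 29), (-276, 30), (-2, 31), (2680, 32), (40, 33), (-40, 34), (2, 36), (-1742, 37), (4358, 38), (-1742, 39)],
    [(13400, 3), (33523, 5), (-16638, 9), (-64450, 12), (7, 13), (206, 14), (-46408, 15), (23204, 16), (23567, 17), (-16638, 19), (64450, 21), (-12890, 22), (-2576, 24), (1190, 25), (-6932, 27), (11490, 29), (1386, 30), (3, 31), (-13400, 32), (-197, 33), (196, 34), (-4, 36), (8726, 37), (-21822, 38), (8726, 39)],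
    [(-58893, 3), (-147353, 5), (73168, 9), (283325, 12), (-27, 13), (-899, 14), (204004, 15), (-102002, 16), (-103641, 17), (73168, 19), (-283325, 21), (56665, 22), (11328, 24), (-5234, 25), (30482, 27), (-50526, 29), (-6094, 30), (-9, 31), (58893, 32), (866, 33), (-860, 34), (14, 36), (-38358, 37), (95922, 38), (-38358, 39)],
    [(1407, 3), (3560, 5), (-1810, 9), (-6875, 12), (-9, 13), (11, 14), (-4940, 15), (2470, 16), (2565, 17), (-1810, 19), (6875, 21), (-1375, 22), (-280, 24), (130, 25), (-749, 27), (1245, 29), (150, 30), (-6, 31), (-1407, 32), (-20, 33), (20, 34), (6, 36), (930, 37), (-2316, 38), (930, 39)],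
    [(53399, 3), (133665, 5), (-66442, 9), (-257060, 12), (11, 13), (799, 14), (-185075, 15), (92538, 16), (94114, 17), (-66442, 19), (257060, 21), (-51412, 22), (-10286, 24), (4754, 25), (-27671, 27), (45873, 29), (5532, 30), (-1, 31), (-53399, 32), (-783, 33), (778, 34), (-4, 36), (34800, 37), (-87011, 38), (34800, 39)],
    [(-62109, 3), (-155484, 5), (77306, 9), (299035, 12), (-9, 13), (-925, 14), (215291, 15), (-107646, 16), (-109502, 17), (77306, 19), (-299035, 21), (59807, 22), (11968, 24), (-5532, 25), (32193, 27), (-53372, 29), (-6436, 30), (4, 31), (62109, 32), (910, 33), (-904, 34), (2, 36), (-40482, 37), (101214, 38), (-40482, 39)],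
    [(43684, 3), (109316, 5), (-54302, 9), (-210205, 12), (16, 13), (662, 14), (-151350, 15), (75675, 16), (76918, 17), (-54302, 19), (210205, 21), (-42041, 22), (-8407, 24), (3885, 25), (-22620, 27), (37496, 29), (4522, 30), (4, 31), (-43684, 32), (-642, 33), (638, 34), (-8, 36), (28458, 37), (-71161, 38), (28458, 39)],
    [(-14137, 3), (-35395, 5), (17606, 9), (68080, 12), (-1, 13), (-209, 14), (49012, 15), (-24506, 16), (-24939, 17), (17606, 19), (-68080, 21), (13616, 22), (2726, 24), (-1260, 25), (7331, 27), (-12154, 29), (-1466, 30), (2, 31), (14137, 32), (207, 33), (-206, 34), (-9216, 37), (23041, 38), (-9216, 39)],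
    [(-15745, 3), (-39444, 5), (19640, 9), (75880, 12), (5, 13), (-227, 14), (54624, 15), (-27312, 16), (-27821, 17), (19640, 19), (-75880, 21), (15176, 22), (3040, 24), (-1405, 25), (8176, 27), (-13557, 29), (-1634, 30), (5, 31), (15745, 32), (231, 33), (-230, 34), (-4, 36), (-10272, 37), (25675, 38), (-10272, 39)]] (by decide +kernel)

end Cfsg.Agent.H3.Tits
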