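import Cfsg.Agent.L0.PcCert
import Cfsg.Agent.L0.Dw
import Cfsg.Agent.H3.Mu.Tits.Tab

/-! Generated certificate: the `2`-part of a Schur multiplier. -/

set_option autoImplicit false
set_option maxRecDepth 100000

open Cfsg.Agent.L0

namespace Cfsg.Agent.H3.Tits.P2

noncomputable def W : List (List ℕ) := [
  dw (nat_lit 4) (nat_lit 15) (nat_lit 14) (nat_lit 0x193131351c0a3),
  dw (nat_lit 4) (nat_lit 15) (nat_lit 10) (nat_lit 0x1831341321),
  dw (nat_lit 4) (nat_lit 15) (nat_lit 4) (nat_lit 0x210),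
  dw (nat_lit 4) (nat_lit 15) (nat_lit 12) (nat_lit 0x13ba31313291),
  dw (nat_lit 4) (nat_lit 15) (nat_lit 12) (nat_lit 0x12351b313130),
  dw (nat_lit 4) (nat_lit 15) (nat_lit 12) (nat_lit 0x3129b3013213),
  dw (nat_lit 4) (nat_lit 15) (nat_lit 6) (nat_lit 0x131020),
  dw (nat_lit 4) (nat_lit 15) (nat_lit 13) (nat_lit 0x1312531313b65),
  dw (nat_lit 4) (nat_lit 15) (nat_lit 12) (nat_lit 0xa313613c6131),
  dw (nat_lit 4) (nat_lit 15) (nat_lit 9) (nat_lit 0x253131342),
  dw (nat_lit 4) (nat_lit 15) (nat_lit 13) (nat_lit 0x1028313613631),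
  dw (nat_lit 4) (nat_lit 15) (nat_lit 13) (nat_lit 0x31a313013b314),
  dw (nat_lit 4) (nat_lit 15) (nat_lit 12) (nat_lit 0x631437135137)]

noncomputable def P : PcP := ⟨nat_lit 2, nat_lit 1, nat_lit 10, nat_lit 0x10020040080100200400801002000010020040080100200600c010000080100200400a01402807000020040090100240500d000044080100200500c8000460981682f0420102604a0921940d0901623840017c3721e54a340, nat_lit 11, nat_lit 2047, nat_lit 13, nat_lit 8191, nat_lit 2, nat_lit 78, nat_lit 8, nat_lit 8⟩

noncomputable def fu : Fus := ⟨[nat_lit 1024, nat_lit 768, nat_lit 128, nat_lit 64, nat_lit 32, nat_lit 16, nat_lit 8, nat_lit 4, nat_lit 2, nat_lit 1, nat_lit 256, nat_lit 16],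
  [nat_lit 1221, nat_lit 895, nat_lit 1083, nat_lit 102, nat_lit 46, nat_lit 879, nat_lit 34, nat_lit 7, nat_lit 1, nat_lit 3, nat_lit 44, nat_lit 2],
  [nat_lit 11, nat_lit 11, nat_lit 11, nat_lit 11, nat_lit 11, nat_lit 11, nat_lit 11, nat_lit 11, nat_lit 11, nat_lit 11, nat_lit 12, nat_lit 12]⟩

noncomputable def lam : List ℕ := [nat_lit 0x0,
  nat_lit 0x100080040000000000000000001,
  nat_lit 0x0,
  nat_lit 0x100080040000000008004000000,
  nat_lit 0x100080040000000000000000000,
  nat_lit 0x100000040000010008000002000,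
  nat_lit 0x100000000000000000000000000,
  nat_lit 0x100000040000000000004000000,
  nat_lit 0x80040000000008004002000,
  nat_lit 0x200000000040000000000004000000,
  nat_lit 0x80040000010008000002000]

noncomputable def bs : List ℕ := []

noncomputable def mo : List ℕ := []

noncomputable def cv0 : List ℕ := [nat_lit 0x10000000000000000000000000000000000000000000000000000000000000000000000000000000000000000000000000000000000000000000000000000000000,
  nat_lit 0x40000000000000000000000000000000000000000000000000000000000000000000000000000000000000000000000000000000000000000000000000000000000000000,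
  nat_lit 0x20000000000000000000000000000000000000000000000000000000000000000000000000000000000000000000000000000000000000000000000000000000000000000000000000000000000000000000000000000,
  nat_lit 0x8000000000000000000000000000000000000000000000000000000000000000000000000000000000000000000000000000000000000000000000000000000000000000000000000000000000000000000000000000000000000000000000000000000000000,
  nat_lit 0x20000000000000001000000000000000000000000000000000000000000000000000000000000000000000000000000000000000000000000000000000000000000000000000000000000000000000000000000000000000000000000000000000000000000000000000,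
  nat_lit 0x100000040000000000000000000000000000000000000000000000000000000000000000000000000000000000000000000000000000000000000000000000000000000000000000,
  nat_lit 0x40000010000000000000000000000000000000000000000000000000000000000000000000000000000000000000000000000000000000000000000000000000000000000000000000000000000000000000000000000000,
  nat_lit 0x20000008000000000000000000000000000000000000000000000000000000000000000000000000000000000000000000000000000000000000000000000000000000000000000000000000000000000000000000000000000000000000000000000000000000000000,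
  nat_lit 0x20010000000000000000000000000000000000000000000000000000000000000000000000000000000000000000000000000000000000000000000000000000000000000000000000000000000000000000000000000000000000000000000000000000000000000000,
  nat_lit 0x8000000000000800000000000000000000000000000000000000000000000000000000000000000000000000,
  nat_lit 0x20000000004000000000000000000000000000000000000000000000000000000000000000000000000000000000000000000000000000000000000000000000000000000000000000000000000000000000000000000000000000000000000000000000000000000000,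
  nat_lit 0x20000000000000000000000000200000000000000000000000000000000000000000000000000000000000000000000000000000000000000000000000000000000000000000000000000000000000000000000000000000000000000000000000000000000000000000,
  nat_lit 0x20000000000002000000000000000000000000000000000000000000000000000000000000000000000000000000000000000000000000000000000000000000000000000000000000000000000000000000000000000000000000000000000000000000000000000000,
  nat_lit 0x1000000000000000000000000000000000000000000000000000000080000000000000000000001000000000000000000000000000000000000000000000000000000000000000000000000000000,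
  nat_lit 0x20000000000000000000800000000000000000000000000000000000000000000000000080000000000000000000000000000000000000000000000000000000000000000000000000000000000000000000000000000000000000000000000000000000000000000000,
  nat_lit 0x800000200100000000000000000000000000000000000000000000000000000000000000000000000000000000000000000000000000000000000000000000000000000000000000000000000000000000000000000000000000000000000000,
  nat_lit 0x8000000000000000000000000000000000000000000000000000000400000000000000000000000000000000000000000000000000000000000000000000000000000000000000000000000000000000000000,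
  nat_lit 0x10000000000000000000000000000000000000000000000000000000000400000000000000000000000000000000000000000000000000000000000000000000000000000000000000000000000000000000000000,
  nat_lit 0x20000000004002000000000000000000000000000000000000000000000000000000000000000000000000000000000000800400000000000000000000000000000000000000000000000000000000000000000000000000000000000000000000000000000000000000,
  nat_lit 0x20000008004000000000000000000000000000000000000000000000000000000000100080000000000000000000000000000000000000000000000000000000000000000000000000000000000000000000000000000000000000000000000000000000000000000000,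
  nat_lit 0x20010008000000000000000000000000000040020000000000000000000000000000000000000000000000000000000000000000000000000000000000000000000000000000000000000000000000000000000000000000000000000000000000000000000000000000,
  nat_lit 0x40020000000004000000000000000000100000000020000000000000000000000000000000000000000000000000000000000000000000000000000000000000000000000000000000000000000000000000000000000000,
  nat_lit 0x20010000000000001000000000000000000040000000000004000000000000000000000000000000000000000000000000000000000000000000000000000000000000000000000000000000000000000000000000000000000000000000000000000000000000000000,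
  nat_lit 0x20010000000000000000800000000000000040000000000000002000000000000000000000000020000000000000000000000000000000000000000000000000000000000000000000000000000000000000000000000000000000000000000000000000000000000000,
  nat_lit 0x20000000000000000000000000200000000000000000000000002000000800400000000000000000000000000000000000000000000000000000000000000000000000000000000000000000000000000000000000000000000000000000000000000000000000000000,
  nat_lit 0x20000000000000000000000400000000000000020000000000000000000000000000000080040000000000000000000000000000000000000000000000000000000000000000000000000000000000000000000000000000000000000000000000000000000000000000,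
  nat_lit 0x20010000000000000000000000000000000040000010000000000000000800000000000000000000000000000000000000800000000000000040000000000000000000000000000000000000000000000000000000000000000000000000000000000000000000000000,
  nat_lit 0x20000000000000000000800000000000000000000000000000000000000000000000000000000000000000000002000000800000000100000000000000000000000000000000000000000000000000000000000000000000000000000000000000000000000000000000,
  nat_lit 0x20000008004000001000000000000000000000000000000000000000000000000000100080000020000000000000000000800000200000000000000000000000000000000000000000000000000000000000000000000000000000000000000000000000000000000000,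
  nat_lit 0x4000000000000000200000000000000000000000000000000000000000100080000000000000004000000000800000000000000040000000000000000000000000000000000000000000000000000000000000000000000000000000000000000000000000,
  nat_lit 0x4000000000000000000000000000000000000000000000000000000000100080000000010008000000000000800000000100000000000000000000000000000000000000000000000000000000000000000000000000000000000000000000000000000000,
  nat_lit 0x4000000000000000000000000040000010000000002000000000000000000000000000000000004000000000800000000100000000000000000000000000000000000000000000000000000000000000000000000000000000000000000000000000000000,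
  nat_lit 0x10000000000000000000000200000080040000000000000000000000000000200000000000000010000004002000000000000000000000000000000000000000000000000000000000000000000000000000000000000000000000000000000000000000000000000,
  nat_lit 0x8000002000000000400000000080000020000008000000001000000000000000000000000000000000000000000000000000000000000000000000000000000000000000000000000000000000000000000000000000000000000000000000000000000000000,
  nat_lit 0x2001000000000000000080000000000000000000000000000000000000000000000000000000000000000000000200000000000000000000000000000000000000000000000000000000000000000000000000000000000000000000000000000000000,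
  nat_lit 0x20010000000000000000000000000000000000000000000000000000000800000000000000000000000000000000000000000000000000000040000000008000000001000800000000000000000000000000000000000000000000000000000000000000000000000000,
  nat_lit 0x20000008000000000000800000000000000000000000000004000000000000000000100000000020010000000000001000000000000000000000000000000000000000000000000000100080000000000000000000000000000000000000000000000000000000000000,
  nat_lit 0x20000008004000000000800000000000080000000000000000000000000000000000000000000000010000004000000000800000000000000000000010000000002000000800400000000000000000000000000000000000000000000000000000000000000000000000,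
  nat_lit 0x20000000000002001000000000000000000000000000000000000000000000000000000000040020000008000000000000000000000000000000000000000004000000000000000000000000000000000000000000000000000000000000000000000000000000000000,
  nat_lit 0x4000000000000000000000000000000000000000000000000000000000100000000000000000000002000000000400000000000000000000000004002000000000000000000000000000000000000000000000000000000000000000000000000000000000]

noncomputable def cc0 : List Con := [
  ⟨nat_lit 1, nat_lit 4, nat_lit 4, [nat_lit 64], [], nthN cv0 (nat_lit 0)⟩,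
  ⟨nat_lit 1, nat_lit 4, nat_lit 4, [nat_lit 16], [], nthN cv0 (nat_lit 1)⟩,
  ⟨nat_lit 1, nat_lit 4, nat_lit 4, [nat_lit 2], [], nthN cv0 (nat_lit 2)⟩,
  ⟨nat_lit 1, nat_lit 4, nat_lit 4, [nat_lit 1], [], nthN cv0 (nat_lit 3)⟩,
  ⟨nat_lit 0, nat_lit 0, nat_lit 5, [nat_lit 32], [], nthN cv0 (nat_lit 4)⟩,
  ⟨nat_lit 0, nat_lit 1, nat_lit 6, [nat_lit 16], [], nthN cv0 (nat_lit 5)⟩,
  ⟨nat_lit 0, nat_lit 1, nat_lit 7, [nat_lit 8], [], nthN cv0 (nat_lit 6)⟩,
  ⟨nat_lit 0, nat_lit 1, nat_lit 8, [nat_lit 4], [], nthN cv0 (nat_lit 7)⟩,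
  ⟨nat_lit 0, nat_lit 1, nat_lit 9, [nat_lit 2], [], nthN cv0 (nat_lit 8)⟩,
  ⟨nat_lit 1, nat_lit 2, nat_lit 2, [nat_lit 128], [], nthN cv0 (nat_lit 9)⟩,
  ⟨nat_lit 0, nat_lit 2, nat_lit 7, [nat_lit 8], [], nthN cv0 (nat_lit 10)⟩,
  ⟨nat_lit 1, nat_lit 2, nat_lit 2, [nat_lit 8], [], nthN cv0 (nat_lit 11)⟩,
  ⟨nat_lit 0, nat_lit 5, nat_lit 6, [nat_lit 16], [], nthN cv0 (nat_lit 12)⟩,
  ⟨nat_lit 1, nat_lit 3, nat_lit 3, [nat_lit 128], [], nthN cv0 (nat_lit 13)⟩,
  ⟨nat_lit 1, nat_lit 4, nat_lit 4, [nat_lit 8], [], nthN cv0 (nat_lit 14)⟩,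
  ⟨nat_lit 1, nat_lit 0, nat_lit 0, [nat_lit 1], [], nthN cv0 (nat_lit 15)⟩,
  ⟨nat_lit 1, nat_lit 3, nat_lit 3, [nat_lit 16], [], nthN cv0 (nat_lit 16)⟩,
  ⟨nat_lit 1, nat_lit 3, nat_lit 3, [nat_lit 8], [], nthN cv0 (nat_lit 17)⟩,
  ⟨nat_lit 0, nat_lit 0, nat_lit 6, [nat_lit 16], [], nthN cv0 (nat_lit 18)⟩,
  ⟨nat_lit 0, nat_lit 0, nat_lit 7, [nat_lit 8], [], nthN cv0 (nat_lit 19)⟩,
  ⟨nat_lit 0, nat_lit 0, nat_lit 8, [nat_lit 4], [], nthN cv0 (nat_lit 20)⟩,
  ⟨nat_lit 0, nat_lit 3, nat_lit 5, [nat_lit 32], [], nthN cv0 (nat_lit 21)⟩,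
  ⟨nat_lit 0, nat_lit 4, nat_lit 5, [nat_lit 32], [], nthN cv0 (nat_lit 22)⟩,
  ⟨nat_lit 1, nat_lit 4, nat_lit 4, [nat_lit 32], [], nthN cv0 (nat_lit 23)⟩,
  ⟨nat_lit 1, nat_lit 0, nat_lit 0, [nat_lit 2], [], nthN cv0 (nat_lit 24)⟩,
  ⟨nat_lit 1, nat_lit 3, nat_lit 3, [nat_lit 4], [], nthN cv0 (nat_lit 25)⟩,
  ⟨nat_lit 1, nat_lit 2, nat_lit 2, [nat_lit 64], [], nthN cv0 (nat_lit 26)⟩,
  ⟨nat_lit 0, nat_lit 1, nat_lit 4, [nat_lit 64], [], nthN cv0 (nat_lit 27)⟩,
  ⟨nat_lit 0, nat_lit 2, nat_lit 5, [nat_lit 32], [], nthN cv0 (nat_lit 28)⟩,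
  ⟨nat_lit 1, nat_lit 2, nat_lit 2, [nat_lit 32], [], nthN cv0 (nat_lit 29)⟩,
  ⟨nat_lit 0, nat_lit 3, nat_lit 4, [nat_lit 64], [], nthN cv0 (nat_lit 30)⟩,
  ⟨nat_lit 0, nat_lit 2, nat_lit 4, [nat_lit 64], [], nthN cv0 (nat_lit 31)⟩,
  ⟨nat_lit 1, nat_lit 0, nat_lit 0, [nat_lit 4], [], nthN cv0 (nat_lit 32)⟩,
  ⟨nat_lit 0, nat_lit 0, nat_lit 1, [nat_lit 2], [], nthN cv0 (nat_lit 33)⟩,
  ⟨nat_lit 0, nat_lit 0, nat_lit 5, [nat_lit 16], [], nthN cv0 (nat_lit 34)⟩,
  ⟨nat_lit 0, nat_lit 2, nat_lit 3, [nat_lit 128], [], nthN cv0 (nat_lit 35)⟩,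
  ⟨nat_lit 0, nat_lit 0, nat_lit 4, [nat_lit 64], [], nthN cv0 (nat_lit 36)⟩,
  ⟨nat_lit 1, nat_lit 0, nat_lit 0, [nat_lit 16], [], nthN cv0 (nat_lit 37)⟩,
  ⟨nat_lit 0, nat_lit 1, nat_lit 3, [nat_lit 16], [], nthN cv0 (nat_lit 38)⟩,
  ⟨nat_lit 1, nat_lit 1, nat_lit 1, [nat_lit 16], [], nthN cv0 (nat_lit 39)⟩]

theorem con0 : allL cc0 (P.conOk fu) = true := by decide +kernel

noncomputable def cv1 : List ℕ := [nat_lit 0x10008000000000000000000000000080000000000000000002000000800000000100000000000000000000000001000000000000100000040020000000000000000000000000000000000000000000000000000000000000000000000000000000000000000000000,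
  nat_lit 0x20010008004000001000000000000100000040020010008000000000000000000000100000040000000000000000000000800000200000000000020000000000000000000000400000000000000000010000000000000000800000000000000000000000000000000000,
  nat_lit 0x20000000000000001000000000200000080000000010000000002000000000000000100000000020000000000000001000800000000000000040000000000000000000000000000000100000000000000008000000001000800000000000000000000000000000000000,
  nat_lit 0x4000000000800000200000080040000000000000002000000800000000100080000000000000004000000000800000000000000040000000000000000000000000000000000080000020010000000000000000000000000000000000000000000000000000,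
  nat_lit 0x8000000001000800400000000000000020000000000002000000000000200000000000020010000000000001000000000000000000000000000000000000000000000000000000080000000000000000000000000000000000000000000000000000000000000,
  nat_lit 0x20000008004002000000000400000000000000020000000004000000000000400000000080000020000000000000000000000000000000000000020000008004000001000000400000100000040000000000000000000000000000000000000000000000000000000000,
  nat_lit 0x8004000000000000400000100000040020000000000000000000000000000000000040020000000000000000000800000200000080000000000008004000001000000400000100000040000010000000002000000000000000000000000000000000000000000,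
  nat_lit 0x8000002000000000000200000000040020000000004000000000000000000100080040000000008000000000000000000000000000040000000000004000000000800000000100000040020000000000000000000000000200100000000000000000000000000,
  nat_lit 0x20000008000002001000000400000000000040000010008004002000000000000000100080040000010008004000000000800400200000000000000000000004000000000800000000100080000000000000000000000000000400200100000000000000008000002000,
  nat_lit 0x10000000002001000800400000000000040000010008000002000000000000200100000040020000000000000000000000000000100000000000010000000000000000000000200100080040000000000004002000000000000000000000000000000000000000000,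
  nat_lit 0x20000008004000001000800000000000000040000010000004002000000000000000000080040000000000004000000000000400000100000040000000008004002000000800000000100080000020000000004000001000000000000000000000000000000000000000,
  nat_lit 0x20000000004000000000800000200000080000000000000000000000000000000000100080040020000000000000000000000400200100000000000000008004000000000800000000100000000020000008004002000000000400000100080000000000000000000000,
  nat_lit 0x20010008004000000000800400000000080040020000008004002000000000000000100080040000010008004000000000000400200100000040000010008004000001000800000200100000040020000008000000000000000000200000000040000010000000000000,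
  nat_lit 0x2000000000000000000000000000000000000000001000000000000000000040020000000000002000000000000000100000000020010000000000000000000000000000000000000000000000000000000000000000100080000000000000000000000000000000000000000000000000000000000000,
  nat_lit 0x8000000000000000000000000000000000000008000000001000000000000000000000000000000004002000000000000000000000000020000000000000000000000000000100000000000000000000000000000000000000000080000000000000000000000000000000000000000000000000000000000000,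
  nat_lit 0x8004000000000000000000000000000000010000000000000000800000000000080000000000000000000000000000000200000000000000010008000000000000000000000000000000000000000000000000000000000000000000000000000000000000000000000000000000000000000000000000000000,
  nat_lit 0x10000000002000000000000000000000000000010008000000000000000000200000000000000000000000000000000000000200000080000000000000004000000000000000000000000000000000008000000000000000000000000000000000000000000000000,
  nat_lit 0x4000001000800000000000000000000000008000000001000000000000000080000000010008000000000000000000200000080040000000000000000000000800000200000000000000010008004000000000000000200000000000000000008000000000000000000200000000000000000000000000001,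
  nat_lit 0x8000002000000000400000000000000020000000004000001000000400000000000040020010000004000000000000000200000000000000000000000000001000000000000100000000000000000000000000000000000000000000000000000008000002000000000000000000000000000000000000000000,
  nat_lit 0x2001000000000000000000000020010000000000001000800000000000000040000010008004002000000000000200000000000000000000000000001000000000000100000000000000000000002000000000000000000080000000000008000002000000000400000000000000000000000000000000,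
  nat_lit 0x200000080000020010008004002000000800400000000080000020000008004002000000000000000000000000020010000000000001000800000200100080000000000000004002000000000000000000000000000000000004000000000000400200000000040000000000000000000,
  nat_lit 0x20000000004000001000000000000100000000020000000004002000000800400000000080000000000000004002000000800400200000000000020000000004002000000800000000000000000000010000000000000000800000000000000000020010000004000000,
  nat_lit 0x40000000000000000000000000000000000000000000000000000000000000000000000000000000000000008000000000000000000000000000000000000000000000000000000000000000000000000000000000000000,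
  nat_lit 0x100080000020000000000000000000800000200000000000000000000000000000000000000000100000000000000000000000000000000000000000000000020000000000000000]

noncomputable def cc1 : List Con := [
  ⟨nat_lit 1, nat_lit 0, nat_lit 0, [nat_lit 8], [], nthN cv1 (nat_lit 0)⟩,
  ⟨nat_lit 1, nat_lit 1, nat_lit 1, [nat_lit 512], [], nthN cv1 (nat_lit 1)⟩,
  ⟨nat_lit 1, nat_lit 0, nat_lit 0, [nat_lit 64], [], nthN cv1 (nat_lit 2)⟩,
  ⟨nat_lit 1, nat_lit 0, nat_lit 0, [nat_lit 32], [], nthN cv1 (nat_lit 3)⟩,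
  ⟨nat_lit 0, nat_lit 0, nat_lit 3, [nat_lit 32], [], nthN cv1 (nat_lit 4)⟩,
  ⟨nat_lit 0, nat_lit 1, nat_lit 3, [nat_lit 128], [], nthN cv1 (nat_lit 5)⟩,
  ⟨nat_lit 1, nat_lit 1, nat_lit 1, [nat_lit 128], [], nthN cv1 (nat_lit 6)⟩,
  ⟨nat_lit 0, nat_lit 0, nat_lit 2, [nat_lit 256], [], nthN cv1 (nat_lit 7)⟩,
  ⟨nat_lit 1, nat_lit 0, nat_lit 0, [nat_lit 1024], [], nthN cv1 (nat_lit 8)⟩,
  ⟨nat_lit 0, nat_lit 0, nat_lit 3, [nat_lit 128], [], nthN cv1 (nat_lit 9)⟩,
  ⟨nat_lit 0, nat_lit 1, nat_lit 2, [nat_lit 256], [], nthN cv1 (nat_lit 10)⟩,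
  ⟨nat_lit 1, nat_lit 0, nat_lit 0, [nat_lit 128], [], nthN cv1 (nat_lit 11)⟩,
  ⟨nat_lit 1, nat_lit 0, nat_lit 0, [nat_lit 256], [], nthN cv1 (nat_lit 12)⟩,
  ⟨nat_lit 2, nat_lit 11, nat_lit 0, [nat_lit 3, nat_lit 3], [nat_lit 7], nthN cv1 (nat_lit 13)⟩,
  ⟨nat_lit 2, nat_lit 11, nat_lit 0, [nat_lit 6, nat_lit 3], [nat_lit 3, nat_lit 6, nat_lit 9], nthN cv1 (nat_lit 14)⟩,
  ⟨nat_lit 2, nat_lit 11, nat_lit 0, [nat_lit 7, nat_lit 0], [nat_lit 0, nat_lit 7, nat_lit 8, nat_lit 9], nthN cv1 (nat_lit 15)⟩,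
  ⟨nat_lit 2, nat_lit 11, nat_lit 0, [nat_lit 6, nat_lit 2], [nat_lit 2, nat_lit 6], nthN cv1 (nat_lit 16)⟩,
  ⟨nat_lit 2, nat_lit 11, nat_lit 0, [nat_lit 2, nat_lit 2], [nat_lit 5, nat_lit 6, nat_lit 8], nthN cv1 (nat_lit 17)⟩,
  ⟨nat_lit 2, nat_lit 11, nat_lit 0, [nat_lit 3, nat_lit 0], [nat_lit 0, nat_lit 3, nat_lit 4, nat_lit 7, nat_lit 9], nthN cv1 (nat_lit 18)⟩,
  ⟨nat_lit 2, nat_lit 11, nat_lit 0, [nat_lit 3, nat_lit 2], [nat_lit 2, nat_lit 3, nat_lit 6, nat_lit 7], nthN cv1 (nat_lit 19)⟩,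
  ⟨nat_lit 2, nat_lit 11, nat_lit 0, [nat_lit 0, nat_lit 0], [nat_lit 1, nat_lit 3], nthN cv1 (nat_lit 20)⟩,
  ⟨nat_lit 2, nat_lit 11, nat_lit 0, [nat_lit 5, nat_lit 5], [], nthN cv1 (nat_lit 21)⟩,
  ⟨nat_lit 2, nat_lit 12, nat_lit 0, [nat_lit 11, nat_lit 11], [], nthN cv1 (nat_lit 22)⟩,
  ⟨nat_lit 2, nat_lit 12, nat_lit 0, [nat_lit 10, nat_lit 10], [], nthN cv1 (nat_lit 23)⟩]

theorem con1 : allL cc1 (P.conOk fu) = true := by decide +kernel

noncomputable def CV : List (List ℕ) := [cv0, cv1]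

noncomputable def MU : List (List ℕ) := [[nat_lit 0],
  [nat_lit 0,
  nat_lit 0],
  [nat_lit 0,
  nat_lit 0,
  nat_lit 0x800010158a3e4c8b],
  [nat_lit 0,
  nat_lit 0,
  nat_lit 0,
  nat_lit 0],
  [nat_lit 0xa01774060eae2cbb,
  nat_lit 0xa00dce12afc5eea0,
  nat_lit 0x100ae53a953bfce,
  nat_lit 0x400dbe891778da5d,
  nat_lit 0xa11f1d17b3d9fe99],
  [nat_lit 0x411b0006b07177b2,
  nat_lit 0xe000ab9852fb4224,
  nat_lit 0x16c7cfc04c6d75,
  nat_lit 0xd57d794253a2e,
  nat_lit 0xa00d641e68502f6f,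
  nat_lit 0x10159a3e481b],
  [nat_lit 0xa10b927be507786e,
  nat_lit 0xa01b12d865144a05,
  nat_lit 0x400000000010030c,
  nat_lit 0x804161784,
  nat_lit 0xc048725069,
  nat_lit 0x401b000d2ee15d47,
  nat_lit 0x400000000010010c],
  [nat_lit 0xa0001271d36745c7,
  nat_lit 0xe016755288592fbd,
  nat_lit 0x401b004dce6f10f6,
  nat_lit 0xe1673261a,
  nat_lit 0x401b004d6e9f5926,
  nat_lit 0x107e14e2,
  nat_lit 0x12014c,
  nat_lit 0x1615c4],
  [nat_lit 0xa00d741bf256225f,
  nat_lit 0x401b004d668108c8,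
  nat_lit 0x401b004dee710d3a,
  nat_lit 0x401b004d2e814c63,
  nat_lit 0x1,
  nat_lit 0x6001be,
  nat_lit 0x2,
  nat_lit 0x8042a,
  nat_lit 0x22],
  [nat_lit 0x5989e090d,
  nat_lit 0x401b004dcb814962,
  nat_lit 0x401b004dca790472,
  nat_lit 0x61265119e,
  nat_lit 0xf84510,
  nat_lit 0x500094,
  nat_lit 0x13014c,
  nat_lit 0x10014c,
  nat_lit 0x4,
  nat_lit 0x10010c],
  [nat_lit 0x4107e04f2,
  nat_lit 0x8cc2a,
  nat_lit 0x888,
  nat_lit 0x20804a4,
  nat_lit 0x844a2,
  nat_lit 0x98,
  nat_lit 0x1088,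
  nat_lit 0x488,
  nat_lit 0x8,
  nat_lit 0x188,
  nat_lit 0x88]]

noncomputable def lv : List (List (List ℕ) × ℕ × List (ℕ × List ℕ)) := [
  ([[nat_lit 0], [nat_lit 1], [nat_lit 3], [nat_lit 4], [nat_lit 5], [nat_lit 7], [nat_lit 8], [nat_lit 9], [nat_lit 10]], nat_lit 0, [(nat_lit 0, []), (nat_lit 6, [nat_lit 0, nat_lit 6, nat_lit 4]), (nat_lit 7, [nat_lit 7, nat_lit 1, nat_lit 4]), (nat_lit 9, [nat_lit 4, nat_lit 0, nat_lit 1]), (nat_lit 10, [nat_lit 6, nat_lit 1, nat_lit 3]), (nat_lit 13, [nat_lit 5, nat_lit 0, nat_lit 2]), (nat_lit 14, [nat_lit 1, nat_lit 4, nat_lit 3, nat_lit 0]), (nat_lit 19, [nat_lit 0, nat_lit 3, nat_lit 2, nat_lit 1]), (nat_lit 21, [nat_lit 1, nat_lit 2, nat_lit 0]), (nat_lit 22, [nat_lit 7, nat_lit 6, nat_lit 1, nat_lit 0]), (nat_lit 25, [nat_lit 8, nat_lit 5, nat_lit 2]), (nat_lit 28, [nat_lit 1, nat_lit 2, nat_lit 3, nat_lit 1]), (nat_lit 29, [nat_lit 1, nat_lit 4]), (nat_lit 30, [nat_lit 0, nat_lit 5, nat_lit 0, nat_lit 0]), (nat_lit 31,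 [nat_lit 4, nat_lit 1, nat_lit 2, nat_lit 1]), (nat_lit 34, [nat_lit 7, nat_lit 6, nat_lit 3]), (nat_lit 36, [nat_lit 5, nat_lit 0, nat_lit 0, nat_lit 2]), (nat_lit 38, [nat_lit 1, nat_lit 2]), (nat_lit 47, [nat_lit 2, nat_lit 4, nat_lit 3, nat_lit 1]), (nat_lit 51, [nat_lit 4, nat_lit 2]), (nat_lit 53, [nat_lit 4, nat_lit 3, nat_lit 0, nat_lit 0]), (nat_lit 54, [nat_lit 6, nat_lit 0, nat_lit 0, nat_lit 0]), (nat_lit 56, [nat_lit 4, nat_lit 2, nat_lit 4, nat_lit 0]), (nat_lit 57, [nat_lit 8, nat_lit 7, nat_lit 0]), (nat_lit 58, [nat_lit 2, nat_lit 2, nat_lit 4]), (nat_lit 59, [nat_lit 3, nat_lit 1, nat_lit 3, nat_lit 1]), (nat_lit 60, [nat_lit 4, nat_lit 1, nat_lit 6, nat_lit 2]), (nat_lit 61, [nat_lit 3, nat_lit 0]), (nat_lit 62, [nat_lit 1, nat_lit 5, nat_lit 4, nat_lit 0]), (nat_lit 63, [nat_lit 4, nat_lit 0, nat_lit 5, nat_lit 1]), (nat_lit 64, [nat_lit 0, nat_lit 3]), (nat_lit 67, [nat_lit 2, nat_lit 6, nat_lit 5, nat_lit 1]), (nat_lit 76, [nat_lit 5, nat_lit 0,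 nat_lit 1, nat_lit 0]), (nat_lit 77, [nat_lit 7, nat_lit 5, nat_lit 0, nat_lit 1]), (nat_lit 80, [nat_lit 8, nat_lit 1, nat_lit 2]), (nat_lit 89, [nat_lit 8, nat_lit 2, nat_lit 2]), (nat_lit 92, [nat_lit 7, nat_lit 0, nat_lit 3, nat_lit 2]), (nat_lit 98, [nat_lit 2, nat_lit 0, nat_lit 0, nat_lit 0]), (nat_lit 101, [nat_lit 1, nat_lit 5, nat_lit 2]), (nat_lit 104, [nat_lit 3, nat_lit 4, nat_lit 2]), (nat_lit 105, [nat_lit 8, nat_lit 4, nat_lit 3]), (nat_lit 110, [nat_lit 5, nat_lit 3, nat_lit 0, nat_lit 3]), (nat_lit 116, [nat_lit 2, nat_lit 4]), (nat_lit 117, [nat_lit 0, nat_lit 1, nat_lit 4]), (nat_lit 121, [nat_lit 0, nat_lit 5]), (nat_lit 124, [nat_lit 1, nat_lit 5, nat_lit 1, nat_lit 0]), (nat_lit 127, [nat_lit 1]), (nat_lit 130, [nat_lit 1, nat_lit 5, nat_lit 4]), (nat_lit 131, [nat_lit 1, nat_lit 6]), (nat_lit 133, [nat_lit 6, nat_lit 1, nat_lit 1, nat_lit 0]), (nat_lit 134, [nat_lit 5, nat_lit 4]), (nat_lit 138, [nat_lit 2, nat_lit 1, nat_lit 0]), (nat_lit 143,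 [nat_lit 5, nat_lit 4, nat_lit 3, nat_lit 0]), (nat_lit 144, [nat_lit 7, nat_lit 1, nat_lit 2, nat_lit 0]), (nat_lit 150, [nat_lit 5, nat_lit 1, nat_lit 2, nat_lit 3]), (nat_lit 151, [nat_lit 5, nat_lit 0, nat_lit 3, nat_lit 0]), (nat_lit 153, [nat_lit 5, nat_lit 0, nat_lit 1]), (nat_lit 157, [nat_lit 5, nat_lit 4, nat_lit 0]), (nat_lit 164, [nat_lit 3, nat_lit 0, nat_lit 0]), (nat_lit 167, [nat_lit 8, nat_lit 3, nat_lit 0, nat_lit 1]), (nat_lit 173, [nat_lit 8, nat_lit 6, nat_lit 0, nat_lit 0]), (nat_lit 181, [nat_lit 7, nat_lit 6, nat_lit 0]), (nat_lit 183, [nat_lit 4, nat_lit 3, nat_lit 5, nat_lit 1]), (nat_lit 186, [nat_lit 2, nat_lit 6, nat_lit 5, nat_lit 0]), (nat_lit 187, [nat_lit 2, nat_lit 3, nat_lit 0, nat_lit 0]), (nat_lit 189, [nat_lit 6, nat_lit 4, nat_lit 2, nat_lit 0]), (nat_lit 190, [nat_lit 3, nat_lit 4, nat_lit 0, nat_lit 2]), (nat_lit 199, [nat_lit 8, nat_lit 7, nat_lit 2, nat_lit 0]), (nat_lit 202, [nat_lit 0, nat_lit 5, nat_lit 4, nat_lit 0]), (nat_lit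 203, [nat_lit 0, nat_lit 5, nat_lit 4, nat_lit 1]), (nat_lit 211, [nat_lit 2, nat_lit 2, nat_lit 0, nat_lit 2]), (nat_lit 214, [nat_lit 1, nat_lit 6, nat_lit 0]), (nat_lit 223, [nat_lit 4, nat_lit 2, nat_lit 2, nat_lit 2]), (nat_lit 225, [nat_lit 6, nat_lit 0, nat_lit 1, nat_lit 0]), (nat_lit 230, [nat_lit 2, nat_lit 4, nat_lit 0, nat_lit 0]), (nat_lit 232, [nat_lit 3, nat_lit 5, nat_lit 1]), (nat_lit 240, [nat_lit 0, nat_lit 6, nat_lit 2]), (nat_lit 246, [nat_lit 4, nat_lit 2, nat_lit 0]), (nat_lit 248, [nat_lit 0, nat_lit 2, nat_lit 0, nat_lit 0]), (nat_lit 249, [nat_lit 8, nat_lit 0, nat_lit 2]), (nat_lit 252, [nat_lit 8, nat_lit 2, nat_lit 1]), (nat_lit 255, [nat_lit 5, nat_lit 0, nat_lit 0]), (nat_lit 258, [nat_lit 2, nat_lit 0, nat_lit 5, nat_lit 1]), (nat_lit 262, [nat_lit 6, nat_lit 3, nat_lit 0, nat_lit 2]), (nat_lit 263, [nat_lit 2, nat_lit 3, nat_lit 1]), (nat_lit 267, [nat_lit 0, nat_lit 1, nat_lit 0]), (nat_lit 270, [nat_lit 8, nat_lit 2]), (nat_lit 273,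 [nat_lit 6, nat_lit 1, nat_lit 2]), (nat_lit 276, [nat_lit 7, nat_lit 1, nat_lit 1, nat_lit 2]), (nat_lit 278, [nat_lit 2, nat_lit 0, nat_lit 0]), (nat_lit 279, [nat_lit 2, nat_lit 2, nat_lit 2]), (nat_lit 286, [nat_lit 6, nat_lit 5, nat_lit 1, nat_lit 0]), (nat_lit 287, [nat_lit 2, nat_lit 6, nat_lit 0]), (nat_lit 290, [nat_lit 8, nat_lit 4, nat_lit 2, nat_lit 3]), (nat_lit 291, [nat_lit 4, nat_lit 1, nat_lit 5, nat_lit 0]), (nat_lit 292, [nat_lit 7, nat_lit 3, nat_lit 5, nat_lit 0]), (nat_lit 295, [nat_lit 4, nat_lit 2, nat_lit 1, nat_lit 0]), (nat_lit 300, [nat_lit 1, nat_lit 4, nat_lit 3]), (nat_lit 304, [nat_lit 7, nat_lit 4, nat_lit 0, nat_lit 1]), (nat_lit 306, [nat_lit 3, nat_lit 0, nat_lit 2]), (nat_lit 315, [nat_lit 0, nat_lit 5, nat_lit 3, nat_lit 1]), (nat_lit 316, [nat_lit 4, nat_lit 1, nat_lit 3]), (nat_lit 319, [nat_lit 1, nat_lit 7, nat_lit 4, nat_lit 0]), (nat_lit 328, [nat_lit 4, nat_lit 2, nat_lit 3]), (nat_lit 331, [nat_lit 5, nat_lit 0, nat_lit 3]),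 (nat_lit 332, [nat_lit 0, nat_lit 0, nat_lit 1]), (nat_lit 335, [nat_lit 4, nat_lit 0, nat_lit 2, nat_lit 0]), (nat_lit 338, [nat_lit 8]), (nat_lit 341, [nat_lit 1, nat_lit 0, nat_lit 5, nat_lit 3]), (nat_lit 350, [nat_lit 3, nat_lit 4, nat_lit 2, nat_lit 0]), (nat_lit 351, [nat_lit 7]), (nat_lit 352, [nat_lit 5, nat_lit 1]), (nat_lit 354, [nat_lit 6, nat_lit 5, nat_lit 4, nat_lit 2]), (nat_lit 356, [nat_lit 5, nat_lit 4, nat_lit 0, nat_lit 0]), (nat_lit 360, [nat_lit 3]), (nat_lit 361, [nat_lit 0, nat_lit 4, nat_lit 3]), (nat_lit 366, [nat_lit 4, nat_lit 1, nat_lit 6, nat_lit 0]), (nat_lit 371, [nat_lit 1, nat_lit 0, nat_lit 2, nat_lit 0]), (nat_lit 373, [nat_lit 8, nat_lit 2, nat_lit 2, nat_lit 2]), (nat_lit 378, [nat_lit 2, nat_lit 0, nat_lit 4]), (nat_lit 380, [nat_lit 1, nat_lit 1]), (nat_lit 381, [nat_lit 2]), (nat_lit 384, [nat_lit 6, nat_lit 1, nat_lit 3, nat_lit 0]), (nat_lit 386, [nat_lit 8, nat_lit 3]), (nat_lit 398, [nat_lit 6, nat_lit 5, nat_lit 1]), (nat_lit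 400, [nat_lit 5, nat_lit 1, nat_lit 1, nat_lit 0]), (nat_lit 403, [nat_lit 3, nat_lit 1, nat_lit 6, nat_lit 0]), (nat_lit 406, [nat_lit 6, nat_lit 3, nat_lit 5, nat_lit 0]), (nat_lit 407, [nat_lit 2, nat_lit 0, nat_lit 5, nat_lit 0]), (nat_lit 412, [nat_lit 2, nat_lit 4, nat_lit 3, nat_lit 0]), (nat_lit 415, [nat_lit 3, nat_lit 1, nat_lit 4, nat_lit 0]), (nat_lit 417, [nat_lit 4, nat_lit 1, nat_lit 3, nat_lit 2]), (nat_lit 426, [nat_lit 1, nat_lit 5, nat_lit 0, nat_lit 3]), (nat_lit 431, [nat_lit 6, nat_lit 4]), (nat_lit 435, [nat_lit 8, nat_lit 2, nat_lit 1, nat_lit 0]), (nat_lit 441, [nat_lit 3, nat_lit 1]), (nat_lit 443, [nat_lit 6, nat_lit 4, nat_lit 0]), (nat_lit 444, [nat_lit 1, nat_lit 1, nat_lit 1]), (nat_lit 447, [nat_lit 7, nat_lit 1, nat_lit 0]), (nat_lit 448, [nat_lit 6, nat_lit 2, nat_lit 4, nat_lit 0]), (nat_lit 453, [nat_lit 3, nat_lit 2, nat_lit 4]), (nat_lit 456, [nat_lit 5, nat_lit 1, nat_lit 3, nat_lit 0]), (nat_lit 462, [nat_lit 5, nat_lit 4, nat_lit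 0, nat_lit 2]), (nat_lit 465, [nat_lit 2, nat_lit 2]), (nat_lit 468, [nat_lit 8, nat_lit 7, nat_lit 2]), (nat_lit 469, [nat_lit 6, nat_lit 3, nat_lit 4]), (nat_lit 479, [nat_lit 6, nat_lit 3, nat_lit 1, nat_lit 0]), (nat_lit 483, [nat_lit 6, nat_lit 5, nat_lit 4]), (nat_lit 486, [nat_lit 5, nat_lit 4, nat_lit 2]), (nat_lit 491, [nat_lit 4, nat_lit 3]), (nat_lit 495, [nat_lit 8, nat_lit 2, nat_lit 3, nat_lit 1]), (nat_lit 496, [nat_lit 4, nat_lit 1, nat_lit 2, nat_lit 0]), (nat_lit 499, [nat_lit 0, nat_lit 4, nat_lit 1, nat_lit 0]), (nat_lit 503, [nat_lit 1, nat_lit 2, nat_lit 0, nat_lit 6]), (nat_lit 513, [nat_lit 1, nat_lit 6, nat_lit 4]), (nat_lit 514, [nat_lit 4, nat_lit 0, nat_lit 6, nat_lit 1]), (nat_lit 515, [nat_lit 0, nat_lit 4]), (nat_lit 519, [nat_lit 3, nat_lit 0, nat_lit 4]), (nat_lit 521, [nat_lit 1, nat_lit 0]), (nat_lit 522, [nat_lit 8, nat_lit 5, nat_lit 1]), (nat_lit 529, [nat_lit 7, nat_lit 3]), (nat_lit 531, [nat_lit 4, nat_lit 0, nat_lit 6]), (nat_lit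 532, [nat_lit 1, nat_lit 5, nat_lit 0, nat_lit 0]), (nat_lit 540, [nat_lit 2, nat_lit 1, nat_lit 3]), (nat_lit 543, [nat_lit 8, nat_lit 6, nat_lit 3]), (nat_lit 546, [nat_lit 4, nat_lit 1, nat_lit 7]), (nat_lit 547, [nat_lit 5, nat_lit 2, nat_lit 0, nat_lit 1]), (nat_lit 548, [nat_lit 2, nat_lit 3, nat_lit 1, nat_lit 0]), (nat_lit 550, [nat_lit 6, nat_lit 5, nat_lit 0]), (nat_lit 560, [nat_lit 7, nat_lit 1, nat_lit 2]), (nat_lit 563, [nat_lit 2, nat_lit 3, nat_lit 5]), (nat_lit 568, [nat_lit 5, nat_lit 3, nat_lit 2]), (nat_lit 569, [nat_lit 4, nat_lit 0, nat_lit 2]), (nat_lit 587, [nat_lit 3, nat_lit 2, nat_lit 0, nat_lit 4]), (nat_lit 591, [nat_lit 7, nat_lit 3, nat_lit 2, nat_lit 0]), (nat_lit 598, [nat_lit 7, nat_lit 6, nat_lit 3, nat_lit 2]), (nat_lit 605, [nat_lit 8, nat_lit 5, nat_lit 4]), (nat_lit 607, [nat_lit 0, nat_lit 3, nat_lit 5]), (nat_lit 614, [nat_lit 0, nat_lit 6]), (nat_lit 616, [nat_lit 0, nat_lit 0, nat_lit 0, nat_lit 2]), (nat_lit 619, [nat_lit 8,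 nat_lit 4, nat_lit 1]), (nat_lit 621, [nat_lit 6, nat_lit 5, nat_lit 0, nat_lit 1]), (nat_lit 623, [nat_lit 5, nat_lit 2, nat_lit 2, nat_lit 0]), (nat_lit 626, [nat_lit 4, nat_lit 3, nat_lit 1]), (nat_lit 629, [nat_lit 2, nat_lit 4, nat_lit 0]), (nat_lit 633, [nat_lit 4, nat_lit 1, nat_lit 6]), (nat_lit 638, [nat_lit 3, nat_lit 0, nat_lit 3]), (nat_lit 641, [nat_lit 1, nat_lit 2, nat_lit 4, nat_lit 0]), (nat_lit 642, [nat_lit 7, nat_lit 0, nat_lit 1]), (nat_lit 645, [nat_lit 0, nat_lit 6, nat_lit 1]), (nat_lit 646, [nat_lit 6, nat_lit 2, nat_lit 2]), (nat_lit 647, [nat_lit 5, nat_lit 0, nat_lit 2, nat_lit 0]), (nat_lit 654, [nat_lit 8, nat_lit 7, nat_lit 3, nat_lit 0]), (nat_lit 657, [nat_lit 2, nat_lit 2, nat_lit 1]), (nat_lit 658, [nat_lit 2, nat_lit 0, nat_lit 6, nat_lit 0]), (nat_lit 659, [nat_lit 6, nat_lit 4, nat_lit 3]), (nat_lit 661, [nat_lit 8, nat_lit 0, nat_lit 1]), (nat_lit 663, [nat_lit 6, nat_lit 2]), (nat_lit 664, [nat_lit 0, nat_lit 0, nat_lit 3, nat_lit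 0]), (nat_lit 667, [nat_lit 2, nat_lit 6]), (nat_lit 668, [nat_lit 3, nat_lit 4]), (nat_lit 670, [nat_lit 8, nat_lit 3, nat_lit 0]), (nat_lit 676, [nat_lit 6, nat_lit 1]), (nat_lit 680, [nat_lit 0, nat_lit 3, nat_lit 2, nat_lit 0]), (nat_lit 683, [nat_lit 1, nat_lit 7, nat_lit 2, nat_lit 0]), (nat_lit 692, [nat_lit 0, nat_lit 6, nat_lit 4, nat_lit 2]), (nat_lit 701, [nat_lit 1, nat_lit 6, nat_lit 2, nat_lit 0]), (nat_lit 702, [nat_lit 6, nat_lit 1, nat_lit 0]), (nat_lit 706, [nat_lit 6, nat_lit 4, nat_lit 0, nat_lit 1]), (nat_lit 708, [nat_lit 2, nat_lit 0, nat_lit 1]), (nat_lit 710, [nat_lit 7, nat_lit 3, nat_lit 0, nat_lit 1]), (nat_lit 711, [nat_lit 6, nat_lit 2, nat_lit 2, nat_lit 2]), (nat_lit 724, [nat_lit 7, nat_lit 0, nat_lit 3]), (nat_lit 725, [nat_lit 2, nat_lit 2, nat_lit 3]), (nat_lit 726, [nat_lit 2, nat_lit 4, nat_lit 1]), (nat_lit 729, [nat_lit 8, nat_lit 5, nat_lit 4, nat_lit 2]), (nat_lit 733, [nat_lit 1, nat_lit 6, nat_lit 4, nat_lit 0]), (nat_lit 742,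 [nat_lit 0, nat_lit 4, nat_lit 2, nat_lit 2]), (nat_lit 749, [nat_lit 4, nat_lit 2, nat_lit 2]), (nat_lit 757, [nat_lit 7, nat_lit 5, nat_lit 3, nat_lit 0]), (nat_lit 760, [nat_lit 0, nat_lit 1]), (nat_lit 761, [nat_lit 1, nat_lit 2, nat_lit 3]), (nat_lit 768, [nat_lit 1, nat_lit 1, nat_lit 1, nat_lit 0]), (nat_lit 769, [nat_lit 6, nat_lit 0, nat_lit 4]), (nat_lit 777, [nat_lit 3, nat_lit 5, nat_lit 1, nat_lit 0]), (nat_lit 781, [nat_lit 4, nat_lit 1, nat_lit 1]), (nat_lit 789, [nat_lit 3, nat_lit 0, nat_lit 2, nat_lit 1]), (nat_lit 790, [nat_lit 4, nat_lit 0, nat_lit 0]), (nat_lit 791, [nat_lit 1, nat_lit 5, nat_lit 0]), (nat_lit 794, [nat_lit 2, nat_lit 0, nat_lit 5]), (nat_lit 795, [nat_lit 0, nat_lit 4, nat_lit 3, nat_lit 1]), (nat_lit 796, [nat_lit 1, nat_lit 3, nat_lit 4]), (nat_lit 799, [nat_lit 0, nat_lit 3, nat_lit 4]), (nat_lit 803, [nat_lit 8, nat_lit 7, nat_lit 4]), (nat_lit 804, [nat_lit 7, nat_lit 5, nat_lit 4, nat_lit 0]), (nat_lit 807, [nat_lit 8, nat_lit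 2, nat_lit 4]), (nat_lit 809, [nat_lit 6, nat_lit 3, nat_lit 0, nat_lit 1]), (nat_lit 817, [nat_lit 1, nat_lit 7, nat_lit 4]), (nat_lit 818, [nat_lit 5, nat_lit 0, nat_lit 2, nat_lit 4]), (nat_lit 820, [nat_lit 7, nat_lit 2, nat_lit 1]), (nat_lit 822, [nat_lit 6, nat_lit 5, nat_lit 2, nat_lit 0]), (nat_lit 824, [nat_lit 1, nat_lit 6, nat_lit 3, nat_lit 0]), (nat_lit 830, [nat_lit 7, nat_lit 3, nat_lit 0]), (nat_lit 832, [nat_lit 8, nat_lit 2, nat_lit 0, nat_lit 0]), (nat_lit 837, [nat_lit 8, nat_lit 0, nat_lit 3, nat_lit 1]), (nat_lit 840, [nat_lit 2, nat_lit 3, nat_lit 4, nat_lit 0]), (nat_lit 841, [nat_lit 3, nat_lit 0, nat_lit 5]), (nat_lit 846, [nat_lit 0, nat_lit 1, nat_lit 6, nat_lit 1]), (nat_lit 849, [nat_lit 1, nat_lit 4, nat_lit 0]), (nat_lit 850, [nat_lit 7, nat_lit 1, nat_lit 6, nat_lit 1]), (nat_lit 852, [nat_lit 5, nat_lit 2, nat_lit 4]), (nat_lit 858, [nat_lit 3, nat_lit 1, nat_lit 3]), (nat_lit 862, [nat_lit 0, nat_lit 5, nat_lit 3]), (nat_lit 865, [nat_lit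 8, nat_lit 0, nat_lit 2, nat_lit 0, nat_lit 0]), (nat_lit 870, [nat_lit 6, nat_lit 2, nat_lit 0, nat_lit 0]), (nat_lit 877, [nat_lit 6, nat_lit 1, nat_lit 2, nat_lit 0]), (nat_lit 878, [nat_lit 1, nat_lit 7]), (nat_lit 884, [nat_lit 7, nat_lit 1, nat_lit 1, nat_lit 0]), (nat_lit 886, [nat_lit 7, nat_lit 4, nat_lit 0]), (nat_lit 892, [nat_lit 1, nat_lit 1, nat_lit 0]), (nat_lit 894, [nat_lit 8, nat_lit 5, nat_lit 2, nat_lit 0]), (nat_lit 898, [nat_lit 2, nat_lit 6, nat_lit 1]), (nat_lit 902, [nat_lit 5, nat_lit 4, nat_lit 1, nat_lit 0]), (nat_lit 904, [nat_lit 0, nat_lit 4, nat_lit 1]), (nat_lit 916, [nat_lit 0, nat_lit 5, nat_lit 0]), (nat_lit 924, [nat_lit 4, nat_lit 2, nat_lit 3, nat_lit 1]), (nat_lit 937, [nat_lit 1, nat_lit 4, nat_lit 2]), (nat_lit 939, [nat_lit 4, nat_lit 2, nat_lit 3, nat_lit 0]), (nat_lit 940, [nat_lit 1, nat_lit 6, nat_lit 1]), (nat_lit 942, [nat_lit 6, nat_lit 3, nat_lit 4, nat_lit 2]), (nat_lit 944, [nat_lit 1, nat_lit 1, nat_lit 2, nat_lit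 0]), (nat_lit 945, [nat_lit 8, nat_lit 0, nat_lit 0, nat_lit 0]), (nat_lit 946, [nat_lit 7, nat_lit 2, nat_lit 4]), (nat_lit 949, [nat_lit 8, nat_lit 2, nat_lit 4, nat_lit 1]), (nat_lit 950, [nat_lit 4]), (nat_lit 951, [nat_lit 4, nat_lit 0, nat_lit 5, nat_lit 0]), (nat_lit 956, [nat_lit 8, nat_lit 0]), (nat_lit 960, [nat_lit 7, nat_lit 3, nat_lit 1, nat_lit 0]), (nat_lit 965, [nat_lit 0, nat_lit 5, nat_lit 2]), (nat_lit 972, [nat_lit 2, nat_lit 6, nat_lit 1, nat_lit 1]), (nat_lit 979, [nat_lit 8, nat_lit 1, nat_lit 2, nat_lit 0]), (nat_lit 982, [nat_lit 8, nat_lit 4, nat_lit 2]), (nat_lit 985, [nat_lit 6, nat_lit 4, nat_lit 1]), (nat_lit 986, [nat_lit 0, nat_lit 2, nat_lit 0]), (nat_lit 988, [nat_lit 0, nat_lit 4, nat_lit 1, nat_lit 2]), (nat_lit 989, [nat_lit 3, nat_lit 1, nat_lit 0, nat_lit 0]), (nat_lit 993, [nat_lit 6, nat_lit 5, nat_lit 2, nat_lit 4, nat_lit 0]), (nat_lit 994, [nat_lit 1, nat_lit 5]), (nat_lit 996, [nat_lit 8, nat_lit 4]), (nat_lit 999, [nat_lit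 0, nat_lit 6, nat_lit 4, nat_lit 0]), (nat_lit 1008, [nat_lit 7, nat_lit 3, nat_lit 2, nat_lit 1]), (nat_lit 1009, [nat_lit 0, nat_lit 2, nat_lit 6]), (nat_lit 1016, [nat_lit 0, nat_lit 2]), (nat_lit 1018, [nat_lit 2, nat_lit 2, nat_lit 0, nat_lit 0]), (nat_lit 1021, [nat_lit 5, nat_lit 1, nat_lit 2]), (nat_lit 1024, [nat_lit 2, nat_lit 1, nat_lit 7, nat_lit 0]), (nat_lit 1029, [nat_lit 3, nat_lit 0, nat_lit 3, nat_lit 0]), (nat_lit 1030, [nat_lit 8, nat_lit 2, nat_lit 0]), (nat_lit 1032, [nat_lit 0, nat_lit 1, nat_lit 7, nat_lit 4]), (nat_lit 1033, [nat_lit 5, nat_lit 4, nat_lit 2, nat_lit 0]), (nat_lit 1034, [nat_lit 1, nat_lit 0, nat_lit 1]), (nat_lit 1036, [nat_lit 8, nat_lit 0, nat_lit 5, nat_lit 1]), (nat_lit 1037, [nat_lit 8, nat_lit 5, nat_lit 0, nat_lit 2]), (nat_lit 1041, [nat_lit 0, nat_lit 1, nat_lit 0, nat_lit 1, nat_lit 0]), (nat_lit 1042, [nat_lit 2, nat_lit 3, nat_lit 5, nat_lit 0]), (nat_lit 1051, [nat_lit 5, nat_lit 1, nat_lit 0]), (nat_lit 1052, [nat_lit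 1, nat_lit 0, nat_lit 2]), (nat_lit 1059, [nat_lit 4, nat_lit 1, nat_lit 6, nat_lit 1]), (nat_lit 1067, [nat_lit 1, nat_lit 6, nat_lit 3]), (nat_lit 1072, [nat_lit 3, nat_lit 1, nat_lit 1, nat_lit 2]), (nat_lit 1073, [nat_lit 1, nat_lit 3, nat_lit 4, nat_lit 0]), (nat_lit 1075, [nat_lit 8, nat_lit 5, nat_lit 2, nat_lit 1]), (nat_lit 1077, [nat_lit 5, nat_lit 3, nat_lit 1, nat_lit 0]), (nat_lit 1078, [nat_lit 6, nat_lit 0, nat_lit 4, nat_lit 1]), (nat_lit 1079, [nat_lit 5, nat_lit 3, nat_lit 0]), (nat_lit 1080, [nat_lit 7, nat_lit 2, nat_lit 3]), (nat_lit 1086, [nat_lit 7, nat_lit 5, nat_lit 1, nat_lit 0]), (nat_lit 1088, [nat_lit 7, nat_lit 4]), (nat_lit 1091, [nat_lit 6, nat_lit 3]), (nat_lit 1097, [nat_lit 6, nat_lit 2, nat_lit 0]), (nat_lit 1102, [nat_lit 0, nat_lit 3, nat_lit 1]), (nat_lit 1109, [nat_lit 6, nat_lit 3, nat_lit 2]), (nat_lit 1110, [nat_lit 6, nat_lit 0, nat_lit 2]), (nat_lit 1115, [nat_lit 0, nat_lit 4, nat_lit 0, nat_lit 0]), (nat_lit 1126, [nat_lit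 5, nat_lit 0, nat_lit 4, nat_lit 1]), (nat_lit 1141, [nat_lit 8, nat_lit 4, nat_lit 2, nat_lit 0]), (nat_lit 1144, [nat_lit 4, nat_lit 3, nat_lit 0]), (nat_lit 1153, [nat_lit 3, nat_lit 0, nat_lit 1]), (nat_lit 1157, [nat_lit 0, nat_lit 4, nat_lit 2]), (nat_lit 1159, [nat_lit 7, nat_lit 5, nat_lit 0]), (nat_lit 1161, [nat_lit 0, nat_lit 4, nat_lit 2, nat_lit 0]), (nat_lit 1163, [nat_lit 0, nat_lit 0, nat_lit 1, nat_lit 0]), (nat_lit 1165, [nat_lit 1, nat_lit 3, nat_lit 0, nat_lit 1]), (nat_lit 1174, [nat_lit 2, nat_lit 3, nat_lit 1, nat_lit 1]), (nat_lit 1176, [nat_lit 0, nat_lit 3, nat_lit 0]), (nat_lit 1182, [nat_lit 7, nat_lit 5, nat_lit 1]), (nat_lit 1186, [nat_lit 5, nat_lit 1, nat_lit 2, nat_lit 0]), (nat_lit 1189, [nat_lit 5, nat_lit 0, nat_lit 0, nat_lit 1]), (nat_lit 1190, [nat_lit 4, nat_lit 3, nat_lit 0, nat_lit 2]), (nat_lit 1191, [nat_lit 5, nat_lit 0, nat_lit 0, nat_lit 0]), (nat_lit 1192, [nat_lit 5, nat_lit 4, nat_lit 1]), (nat_lit 1194, [nat_lit 0, nat_lit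 2, nat_lit 1]), (nat_lit 1195, [nat_lit 4, nat_lit 0, nat_lit 5]), (nat_lit 1198, [nat_lit 6, nat_lit 5, nat_lit 0, nat_lit 2]), (nat_lit 1200, [nat_lit 1, nat_lit 0, nat_lit 4]), (nat_lit 1202, [nat_lit 8, nat_lit 3, nat_lit 1, nat_lit 0]), (nat_lit 1203, [nat_lit 2, nat_lit 3, nat_lit 5, nat_lit 1]), (nat_lit 1204, [nat_lit 6, nat_lit 1, nat_lit 5, nat_lit 0]), (nat_lit 1207, [nat_lit 2, nat_lit 1, nat_lit 3, nat_lit 0]), (nat_lit 1218, [nat_lit 4, nat_lit 1, nat_lit 7, nat_lit 0]), (nat_lit 1220, [nat_lit 2, nat_lit 0, nat_lit 2]), (nat_lit 1223, [nat_lit 2, nat_lit 3, nat_lit 0]), (nat_lit 1229, [nat_lit 1, nat_lit 6, nat_lit 3, nat_lit 2]), (nat_lit 1231, [nat_lit 8, nat_lit 3, nat_lit 1]), (nat_lit 1232, [nat_lit 7, nat_lit 0]), (nat_lit 1234, [nat_lit 0, nat_lit 0]), (nat_lit 1242, [nat_lit 6, nat_lit 2, nat_lit 0, nat_lit 1]), (nat_lit 1244, [nat_lit 2, nat_lit 1]), (nat_lit 1248, [nat_lit 4, nat_lit 0]), (nat_lit 1249, [nat_lit 5]), (nat_lit 1252, [nat_lit 8,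 nat_lit 1, nat_lit 1, nat_lit 2]), (nat_lit 1255, [nat_lit 4, nat_lit 1, nat_lit 2]), (nat_lit 1256, [nat_lit 8, nat_lit 2, nat_lit 3]), (nat_lit 1261, [nat_lit 8, nat_lit 1, nat_lit 1, nat_lit 1]), (nat_lit 1263, [nat_lit 6, nat_lit 1, nat_lit 3, nat_lit 2]), (nat_lit 1264, [nat_lit 1, nat_lit 3, nat_lit 0, nat_lit 0]), (nat_lit 1265, [nat_lit 0, nat_lit 1, nat_lit 0, nat_lit 1]), (nat_lit 1267, [nat_lit 0, nat_lit 4, nat_lit 0]), (nat_lit 1277, [nat_lit 1, nat_lit 0, nat_lit 5]), (nat_lit 1285, [nat_lit 8, nat_lit 6]), (nat_lit 1288, [nat_lit 2, nat_lit 0, nat_lit 6]), (nat_lit 1292, [nat_lit 0, nat_lit 5, nat_lit 1]), (nat_lit 1296, [nat_lit 3, nat_lit 5, nat_lit 2, nat_lit 1]), (nat_lit 1298, [nat_lit 6, nat_lit 3, nat_lit 2, nat_lit 0]), (nat_lit 1301, [nat_lit 3, nat_lit 2, nat_lit 1]), (nat_lit 1315, [nat_lit 3, nat_lit 1, nat_lit 3, nat_lit 0]), (nat_lit 1323, [nat_lit 7, nat_lit 2, nat_lit 0]), (nat_lit 1324, [nat_lit 8, nat_lit 3, nat_lit 0, nat_lit 2]), (nat_lit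 1327, [nat_lit 5, nat_lit 3]), (nat_lit 1328, [nat_lit 6, nat_lit 0, nat_lit 1]), (nat_lit 1338, [nat_lit 6, nat_lit 3, nat_lit 1]), (nat_lit 1340, [nat_lit 0, nat_lit 5, nat_lit 4]), (nat_lit 1341, [nat_lit 5, nat_lit 1, nat_lit 6]), (nat_lit 1342, [nat_lit 8, nat_lit 4, nat_lit 1, nat_lit 0]), (nat_lit 1348, [nat_lit 5, nat_lit 2, nat_lit 0]), (nat_lit 1349, [nat_lit 6, nat_lit 4, nat_lit 0, nat_lit 0]), (nat_lit 1351, [nat_lit 1, nat_lit 2, nat_lit 1]), (nat_lit 1360, [nat_lit 5, nat_lit 2, nat_lit 1]), (nat_lit 1362, [nat_lit 1, nat_lit 3]), (nat_lit 1363, [nat_lit 6]), (nat_lit 1364, [nat_lit 8, nat_lit 1, nat_lit 4]), (nat_lit 1367, [nat_lit 2, nat_lit 2, nat_lit 0]), (nat_lit 1369, [nat_lit 3, nat_lit 5, nat_lit 2]), (nat_lit 1372, [nat_lit 0, nat_lit 3, nat_lit 0, nat_lit 0]), (nat_lit 1374, [nat_lit 2, nat_lit 0, nat_lit 6, nat_lit 1]), (nat_lit 1375, [nat_lit 1, nat_lit 0, nat_lit 1, nat_lit 0]), (nat_lit 1384, [nat_lit 6, nat_lit 4, nat_lit 1, nat_lit 0]),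 (nat_lit 1385, [nat_lit 7, nat_lit 4, nat_lit 2]), (nat_lit 1393, [nat_lit 7, nat_lit 1, nat_lit 4, nat_lit 0]), (nat_lit 1394, [nat_lit 0, nat_lit 0, nat_lit 0]), (nat_lit 1395, [nat_lit 5, nat_lit 0, nat_lit 4]), (nat_lit 1397, [nat_lit 1, nat_lit 0, nat_lit 0]), (nat_lit 1400, [nat_lit 6, nat_lit 0, nat_lit 0]), (nat_lit 1415, [nat_lit 2, nat_lit 1, nat_lit 1, nat_lit 1]), (nat_lit 1417, [nat_lit 0]), (nat_lit 1428, [nat_lit 7, nat_lit 3, nat_lit 2, nat_lit 4]), (nat_lit 1430, [nat_lit 6, nat_lit 1, nat_lit 1]), (nat_lit 1435, [nat_lit 6, nat_lit 5, nat_lit 2]), (nat_lit 1438, [nat_lit 7, nat_lit 6]), (nat_lit 1439, [nat_lit 4, nat_lit 1]), (nat_lit 1440, [nat_lit 8, nat_lit 7, nat_lit 5, nat_lit 0]), (nat_lit 1441, [nat_lit 6, nat_lit 5]), (nat_lit 1442, [nat_lit 2, nat_lit 2, nat_lit 2, nat_lit 1]), (nat_lit 1446, [nat_lit 6, nat_lit 2, nat_lit 4]), (nat_lit 1448, [nat_lit 1, nat_lit 7, nat_lit 2]), (nat_lit 1452, [nat_lit 3, nat_lit 5, nat_lit 3]), (nat_lit 1459,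 [nat_lit 1, nat_lit 3, nat_lit 0]), (nat_lit 1471, [nat_lit 1, nat_lit 3, nat_lit 1]), (nat_lit 1473, [nat_lit 7, nat_lit 4, nat_lit 1, nat_lit 0]), (nat_lit 1475, [nat_lit 8, nat_lit 3, nat_lit 2]), (nat_lit 1476, [nat_lit 7, nat_lit 1, nat_lit 6]), (nat_lit 1477, [nat_lit 4, nat_lit 0, nat_lit 5, nat_lit 2]), (nat_lit 1478, [nat_lit 3, nat_lit 0, nat_lit 0, nat_lit 2]), (nat_lit 1484, [nat_lit 8, nat_lit 1]), (nat_lit 1485, [nat_lit 1, nat_lit 2, nat_lit 3, nat_lit 0]), (nat_lit 1486, [nat_lit 6, nat_lit 4, nat_lit 2]), (nat_lit 1487, [nat_lit 1, nat_lit 1, nat_lit 3]), (nat_lit 1495, [nat_lit 0, nat_lit 1, nat_lit 5]), (nat_lit 1496, [nat_lit 1, nat_lit 7, nat_lit 0]), (nat_lit 1500, [nat_lit 6, nat_lit 5, nat_lit 3]), (nat_lit 1501, [nat_lit 5, nat_lit 2, nat_lit 4, nat_lit 0]), (nat_lit 1505, [nat_lit 3, nat_lit 5, nat_lit 0]), (nat_lit 1508, [nat_lit 2, nat_lit 1, nat_lit 1]), (nat_lit 1510, [nat_lit 1, nat_lit 7, nat_lit 1]), (nat_lit 1522, [nat_lit 8, nat_lit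 2, nat_lit 1, nat_lit 1]), (nat_lit 1523, [nat_lit 4, nat_lit 1, nat_lit 0]), (nat_lit 1524, [nat_lit 7, nat_lit 4, nat_lit 3]), (nat_lit 1525, [nat_lit 0, nat_lit 1, nat_lit 2]), (nat_lit 1526, [nat_lit 3, nat_lit 5]), (nat_lit 1527, [nat_lit 6, nat_lit 0, nat_lit 1, nat_lit 4]), (nat_lit 1528, [nat_lit 3, nat_lit 1, nat_lit 1]), (nat_lit 1531, [nat_lit 8, nat_lit 0, nat_lit 5]), (nat_lit 1533, [nat_lit 4, nat_lit 0, nat_lit 0, nat_lit 0]), (nat_lit 1536, [nat_lit 4, nat_lit 1, nat_lit 3, nat_lit 0]), (nat_lit 1538, [nat_lit 5, nat_lit 2, nat_lit 0, nat_lit 0]), (nat_lit 1540, [nat_lit 2, nat_lit 1, nat_lit 7]), (nat_lit 1541, [nat_lit 7, nat_lit 2]), (nat_lit 1547, [nat_lit 4, nat_lit 2, nat_lit 0, nat_lit 0]), (nat_lit 1548, [nat_lit 0, nat_lit 0, nat_lit 2, nat_lit 1]), (nat_lit 1551, [nat_lit 7, nat_lit 1, nat_lit 1]), (nat_lit 1555, [nat_lit 3, nat_lit 1, nat_lit 0, nat_lit 1]), (nat_lit 1557, [nat_lit 1, nat_lit 1, nat_lit 0, nat_lit 1]), (nat_lit 1560, [nat_lit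 6, nat_lit 3, nat_lit 5]), (nat_lit 1561, [nat_lit 7, nat_lit 1, nat_lit 6, nat_lit 2]), (nat_lit 1568, [nat_lit 0, nat_lit 6, nat_lit 0]), (nat_lit 1573, [nat_lit 8, nat_lit 1, nat_lit 3, nat_lit 0]), (nat_lit 1577, [nat_lit 3, nat_lit 2, nat_lit 1, nat_lit 0]), (nat_lit 1582, [nat_lit 8, nat_lit 5]), (nat_lit 1588, [nat_lit 0, nat_lit 2, nat_lit 4]), (nat_lit 1590, [nat_lit 8, nat_lit 1, nat_lit 1]), (nat_lit 1591, [nat_lit 4, nat_lit 1, nat_lit 5]), (nat_lit 1593, [nat_lit 3, nat_lit 0, nat_lit 2, nat_lit 0]), (nat_lit 1594, [nat_lit 5, nat_lit 0]), (nat_lit 1600, [nat_lit 2, nat_lit 6, nat_lit 2]), (nat_lit 1606, [nat_lit 7, nat_lit 1]), (nat_lit 1607, [nat_lit 1, nat_lit 3, nat_lit 2]), (nat_lit 1609, [nat_lit 7, nat_lit 3, nat_lit 2]), (nat_lit 1613, [nat_lit 8, nat_lit 5, nat_lit 0]), (nat_lit 1631, [nat_lit 8, nat_lit 0, nat_lit 0]), (nat_lit 1638, [nat_lit 3, nat_lit 1, nat_lit 2]), (nat_lit 1640, [nat_lit 8, nat_lit 1, nat_lit 0]), (nat_lit 1644, [nat_lit 0,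 nat_lit 1, nat_lit 6]), (nat_lit 1645, [nat_lit 4, nat_lit 3, nat_lit 5, nat_lit 0]), (nat_lit 1648, [nat_lit 6, nat_lit 5, nat_lit 4, nat_lit 0]), (nat_lit 1649, [nat_lit 3, nat_lit 2]), (nat_lit 1650, [nat_lit 7, nat_lit 0, nat_lit 2]), (nat_lit 1652, [nat_lit 2, nat_lit 3, nat_lit 4]), (nat_lit 1661, [nat_lit 3, nat_lit 4, nat_lit 0]), (nat_lit 1663, [nat_lit 0, nat_lit 3, nat_lit 2]), (nat_lit 1670, [nat_lit 6, nat_lit 3, nat_lit 0]), (nat_lit 1673, [nat_lit 2, nat_lit 0]), (nat_lit 1674, [nat_lit 2, nat_lit 0, nat_lit 1, nat_lit 4]), (nat_lit 1681, [nat_lit 1, nat_lit 1, nat_lit 2, nat_lit 1]), (nat_lit 1686, [nat_lit 3, nat_lit 2, nat_lit 0]), (nat_lit 1687, [nat_lit 0, nat_lit 6, nat_lit 0, nat_lit 0]), (nat_lit 1690, [nat_lit 8, nat_lit 7, nat_lit 6]), (nat_lit 1692, [nat_lit 0, nat_lit 0, nat_lit 2]), (nat_lit 1693, [nat_lit 4, nat_lit 3, nat_lit 1, nat_lit 0]), (nat_lit 1697, [nat_lit 4, nat_lit 3, nat_lit 0, nat_lit 5]), (nat_lit 1699, [nat_lit 1, nat_lit 6,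 nat_lit 2]), (nat_lit 1700, [nat_lit 8, nat_lit 7, nat_lit 3]), (nat_lit 1706, [nat_lit 8, nat_lit 7]), (nat_lit 1707, [nat_lit 5, nat_lit 2]), (nat_lit 1708, [nat_lit 0, nat_lit 1, nat_lit 3]), (nat_lit 1709, [nat_lit 5, nat_lit 3, nat_lit 1]), (nat_lit 1710, [nat_lit 0, nat_lit 1, nat_lit 3, nat_lit 0]), (nat_lit 1717, [nat_lit 2, nat_lit 6, nat_lit 0, nat_lit 0]), (nat_lit 1719, [nat_lit 6, nat_lit 5, nat_lit 3, nat_lit 0]), (nat_lit 1720, [nat_lit 5, nat_lit 4, nat_lit 3, nat_lit 1]), (nat_lit 1723, [nat_lit 3, nat_lit 4, nat_lit 3]), (nat_lit 1727, [nat_lit 6, nat_lit 0]), (nat_lit 1729, [nat_lit 4, nat_lit 3, nat_lit 2, nat_lit 0]), (nat_lit 1730, [nat_lit 0, nat_lit 1, nat_lit 7]), (nat_lit 1737, [nat_lit 2, nat_lit 3]), (nat_lit 1738, [nat_lit 2, nat_lit 1, nat_lit 5]), (nat_lit 1739, [nat_lit 1, nat_lit 1, nat_lit 2]), (nat_lit 1742, [nat_lit 4, nat_lit 2, nat_lit 4]), (nat_lit 1747, [nat_lit 7, nat_lit 4, nat_lit 2, nat_lit 0]), (nat_lit 1750, [nat_lit 4, nat_lit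 2, nat_lit 1]), (nat_lit 1751, [nat_lit 7, nat_lit 6, nat_lit 2]), (nat_lit 1752, [nat_lit 2, nat_lit 6, nat_lit 5]), (nat_lit 1753, [nat_lit 3, nat_lit 1, nat_lit 0])]),
  ([[nat_lit 2], [nat_lit 6]], nat_lit 96, [(nat_lit 96, []), (nat_lit 748, [nat_lit 0]), (nat_lit 772, [nat_lit 1, nat_lit 0]), (nat_lit 1346, [nat_lit 1])])]

theorem rel0 : P.relRow (dT T W) B 0 = true := by decide +kernel
theorem rel1 : P.relRow (dT T W) B 1 = true := by decide +kernel
theorem rel2 : P.relRow (dT T W) B 2 = true := by decide +kernel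
theorem rel3 : P.relRow (dT T W) B 3 = true := by decide +kernel
theorem rel4 : P.relRow (dT T W) B 4 = true := by decide +kernel
theorem rel5 : P.relRow (dT T W) B 5 = true := by decide +kernel
theorem rel6 : P.relRow (dT T W) B 6 = true := by decide +kernel
theorem rel7 : P.relRow (dT T W) B 7 = true := by decide +kernel
theorem rel8 : P.relRow (dT T W) B 8 = true := by decide +kernel
theorem rel9 : P.relRow (dT T W) B 9 = true := by decide +kernel
theorem rel10 : P.relRow (dT T W) B 10 = true := by decide +kernel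
theorem fus0 : P.fusOk (dT T W) B fu 0 = true := by decide +kernel
theorem fus1 : P.fusOk (dT T W) B fu 1 = true := by decide +kernel
theorem fus2 : P.fusOk (dT T W) B fu 2 = true := by decide +kernel
theorem fus3 : P.fusOk (dT T W) B fu 3 = true := by decide +kernel
theorem fus4 : P.fusOk (dT T W) B fu 4 = true := by decide +kernel
theorem fus5 : P.fusOk (dT T W) B fu 5 = true := by decide +kernel
theorem fus6 : P.fusOk (dT T W) B fu 6 = true := by decide +kernel
theorem fus7 : P.fusOk (dT T W) B fu 7 = true := by decide +kernel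
theorem fus8 : P.fusOk (dT T W) B fu 8 = true := by decide +kernel
theorem fus9 : P.fusOk (dT T W) B fu 9 = true := by decide +kernel
theorem fus10 : P.fusOk (dT T W) B fu 10 = true := by decide +kernel
theorem fus11 : P.fusOk (dT T W) B fu 11 = true := by decide +kernel
theorem fin0 : P.finRow lam (bs :: CV) MU 0 = true := by decide +kernel
theorem fin1 : P.finRow lam (bs :: CV) MU 1 = true := by decide +kernel
theorem fin2 : P.finRow lam (bs :: CV) MU 2 = true := by decide +kernel
theorem fin3 : P.finRow lam (bs :: CV) MU 3 = true := by decide +kernel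
theorem fin4 : P.finRow lam (bs :: CV) MU 4 = true := by decide +kernel
theorem fin5 : P.finRow lam (bs :: CV) MU 5 = true := by decide +kernel
theorem fin6 : P.finRow lam (bs :: CV) MU 6 = true := by decide +kernel
theorem fin7 : P.finRow lam (bs :: CV) MU 7 = true := by decide +kernel
theorem fin8 : P.finRow lam (bs :: CV) MU 8 = true := by decide +kernel
theorem fin9 : P.finRow lam (bs :: CV) MU 9 = true := by decide +kernel
theorem fin10 : P.finRow lam (bs :: CV) MU 10 = true := by decide +kernel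

theorem pm {G : Type*} [Group G] [Finite G] {A : RAct G 1755} {g : ℕ → G} (hb : A.IsBase B)
    (h : A.Tab g 13 T) (ho : Nat.card G = 17971200) : PMult G 2 0 0 :=
  pmult_of_tab hb h ho P (show Nat.Prime 2 by norm_num) W fu 0 lam bs mo [cc0, cc1] CV MU lv 12
    (by decide +kernel) (forall_lt_succ' (forall_lt_succ' (forall_lt_succ' (forall_lt_succ' (forall_lt_succ' (forall_lt_succ' (forall_lt_succ' (forall_lt_succ' (forall_lt_succ' (forall_lt_succ' (forall_lt_succ' forall_lt_zero' rel0) rel1) rel2) rel3) rel4) rel5) rel6) rel7) rel8) rel9) rel10) (by decide +kernel)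
    (forall_lt_succ' (forall_lt_succ' (forall_lt_succ' (forall_lt_succ' (forall_lt_succ' (forall_lt_succ' (forall_lt_succ' (forall_lt_succ' (forall_lt_succ' (forall_lt_succ' (forall_lt_succ' (forall_lt_succ' forall_lt_zero' fus0) fus1) fus2) fus3) fus4) fus5) fus6) fus7) fus8) fus9) fus10) fus11)
    (by decide +kernel) (by decide +kernel) (by decide +kernel) (by decide +kernel)
    (List.forall_mem_cons.mpr ⟨con0, (List.forall_mem_cons.mpr ⟨con1, (by simp)⟩)⟩)
    (forall_lt_succ' (forall_lt_succ' (forall_lt_succ' (forall_lt_succ' (forall_lt_succ' (forall_lt_succ' (forall_lt_succ' (forall_lt_succ' (forall_lt_succ' (forall_lt_succ' (forall_lt_succ' forall_lt_zero' fin0) fin1) fin2) fin3) fin4) fin5) fin6) fin7) fin8) fin9) fin10) (by decide +kernel)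

end Cfsg.Agent.H3.Tits.P2
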